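import Mathlib
import Cfsg.Agent.Lib.SOT.SOTDefs
import Cfsg.Agent.Lib.SOT.SOTDiv

/-!
# S4004 part 2, piece S44-AR1: Frobenius at `p * q` when `s p = m ≠ s q = n`
RECIPE.  `p * q ∣ N` (coprime).  `h.frob (p*q)`, `sum_div_pq s hp hq hpq`, `h.one`:
`p * q ∣ 1 + m + n + s (p*q)`.  `h.vals (p*q)` (`3 ≤ p*q`): `s (p*q) = m` or `= n` (not `0`).
`h.prime_dvd hp hpN : p ∣ 1 + s p`, same for `q`.
Case `= m`: `p ∣ 1 + m + n + m` and `p ∣ 1 + m` give `p ∣ n + m`; if `p ∣ n` then `p ∣ m`, `p ∣ 1`.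
Case `= n`: `q ∣ 1 + m + n + n`, `q ∣ 1 + n` give `q ∣ m + n`; if `q ∣ m` then `q ∣ n`, `q ∣ 1`.
(`Nat.dvd_sub`, `(Nat.dvd_add_right _).1`, `omega` after `obtain ⟨c, hc⟩`.)  Aux prefix `s44ar1_`.
-/

set_option autoImplicit false

namespace Cfsg.Agent.Helper5.S44

open Cfsg.Agent.Lead.SOT

theorem s44_pq_cases {N : ℕ} {s : ℕ → ℕ} {m n : ℕ} (h : FD N s m n) {p q : ℕ} (hp : p.Prime)
    (hq : q.Prime) (hpq : p ≠ q) (hpN : p ∣ N) (hqN : q ∣ N)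
    (hsp : s p = m) (hsq : s q = n) (hne : s (p * q) ≠ 0) :
    (s (p * q) = m ∧ ¬ p ∣ n) ∨ (s (p * q) = n ∧ ¬ q ∣ m) := by
  have hcpq : Nat.Coprime p q := (Nat.coprime_primes hp hq).2 hpq
  have hpqN : p * q ∣ N := Nat.Coprime.mul_dvd_of_dvd_of_dvd hcpq hpN hqN
  have hfrob := h.frob (p * q) hpqN
  rw [sum_div_pq s hp hq hpq, h.one, hsp, hsq] at hfrob
  have hp1 : p ∣ 1 + m := by
    have := h.prime_dvd hp hpN
    rwa [hsp] at this
  have hq1 : q ∣ 1 + n := by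
    have := h.prime_dvd hq hqN
    rwa [hsq] at this
  have hpd : p ∣ 1 + m + n + s (p * q) := (Dvd.intro q rfl : p ∣ p * q).trans hfrob
  have hqd : q ∣ 1 + m + n + s (p * q) := (Dvd.intro_left p rfl : q ∣ p * q).trans hfrob
  have h3 : 3 ≤ p * q := by
    have h2p := hp.two_le
    have h2q := hq.two_le
    nlinarith
  rcases h.vals (p * q) h3 with h0 | h0 | h0
  · exact absurd h0 hne
  · left
    refine ⟨h0, ?_⟩
    intro hpn
    rw [h0] at hpd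
    -- p ∣ (1 + m) + (n + m), p ∣ 1 + m, p ∣ n, so p ∣ m, so p ∣ 1
    have hsplit : 1 + m + n + m = (1 + m) + n + m := by ring
    rw [hsplit] at hpd
    have hpm : p ∣ m := (Nat.dvd_add_right (Dvd.dvd.add hp1 hpn)).1 hpd
    have hp11 : p ∣ 1 := (Nat.dvd_add_left hpm).1 hp1
    exact hp.one_lt.ne' (Nat.dvd_one.1 hp11)
  · right
    refine ⟨h0, ?_⟩
    intro hqm
    rw [h0] at hqd
    have hsplit : 1 + m + n + n = (1 + n) + m + n := by ring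
    rw [hsplit] at hqd
    have hqn : q ∣ n := (Nat.dvd_add_right (Dvd.dvd.add hq1 hqm)).1 hqd
    have hq11 : q ∣ 1 := (Nat.dvd_add_left hqn).1 hq1
    exact hq.one_lt.ne' (Nat.dvd_one.1 hq11)

end Cfsg.Agent.Helper5.S44
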