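import Mathlib
import Cfsg.Agent.Lib.SOT.SOTDefs
import Cfsg.Agent.Lib.SOT.SOTDiv

/-!
# S4004 part 2, piece S44-AR2: no elements of order `p ^ 2`; and a divisor trichotomy
RECIPE `s44_psq_zero`.  `by_contra h0`; `h.vals (p^2)` (`3 ≤ p^2`): `s (p^2) = m` or `n`.
`h.frob (p^2) hppN` + `sum_div_psq s hp` + `h.one`: `p^2 ∣ 1 + m + s (p^2)`, hence `p ∣ …`;
`h.prime_dvd hp (p ∣ N) : p ∣ 1 + s p`; so `p ∣ s (p^2)`.  If `s (p^2) = m`: `p ∣ m`, `p ∣ 1 + m`,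
`p ∣ 1`.  If `s (p^2) = n`: `q ∣ n` (`hqd`), `q ∣ 1 + n` (`h.prime_dvd hq hqN`, `hsq`), `q ∣ 1`.
RECIPE `s44_dvd_cases`.  If `d ≠ 1` pick a prime `r ∣ d` (`Nat.exists_prime_and_dvd`), `r = p` or
`q`; write `d = r * e`; if `e = 1` then `d = r`; else a prime `r' ∣ e` is `p` or `q`, giving
`p^2 ∣ d`, `q^2 ∣ d` or `p*q ∣ d` (`mul_dvd_mul_left`, `pow_two`, `mul_comm`).
Aux names: prefix `s44ar2_`.
-/

set_option autoImplicit false

namespace Cfsg.Agent.Helper5.S44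

open Cfsg.Agent.Lead.SOT

theorem s44_psq_zero {N : ℕ} {s : ℕ → ℕ} {m n : ℕ} (h : FD N s m n) {p q : ℕ} (hp : p.Prime)
    (hq : q.Prime) (hqN : q ∣ N) (hppN : p ^ 2 ∣ N) (hsp : s p = m) (hsq : s q = n)
    (hqd : q ∣ s (p ^ 2)) : s (p ^ 2) = 0 := by
  by_contra h0
  have hpN : p ∣ N := dvd_trans (dvd_pow_self p (by norm_num)) hppN
  have h3 : 3 ≤ p ^ 2 := by
    have h2 := hp.two_le
    nlinarith
  have hfr := h.frob (p ^ 2) hppN
  rw [sum_div_psq s hp, h.one, hsp] at hfr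
  have hpd : p ∣ 1 + m + s (p ^ 2) := dvd_trans (dvd_pow_self p (by norm_num)) hfr
  have hp1 : p ∣ 1 + m := by
    have := h.prime_dvd hp hpN
    rwa [hsp] at this
  have hps : p ∣ s (p ^ 2) := (Nat.dvd_add_right hp1).1 hpd
  rcases h.vals (p ^ 2) h3 with h1 | h1 | h1
  · exact h0 h1
  · rw [h1] at hps
    have : p ∣ 1 := (Nat.dvd_add_left hps).1 hp1
    exact hp.one_lt.ne' (Nat.dvd_one.1 this)
  · rw [h1] at hqd
    have hq1 : q ∣ 1 + n := by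
      have := h.prime_dvd hq hqN
      rwa [hsq] at this
    have : q ∣ 1 := (Nat.dvd_add_left hqd).1 hq1
    exact hq.one_lt.ne' (Nat.dvd_one.1 this)

theorem s44_dvd_cases {p q d : ℕ} (hp : p.Prime) (hq : q.Prime) (hd0 : d ≠ 0)
    (hd : ∀ r : ℕ, r.Prime → r ∣ d → r = p ∨ r = q) :
    d = 1 ∨ d = p ∨ d = q ∨ p ^ 2 ∣ d ∨ q ^ 2 ∣ d ∨ p * q ∣ d := by
  by_cases hd1 : d = 1
  · exact Or.inl hd1
  obtain ⟨r, hr, hrd⟩ := Nat.exists_prime_and_dvd hd1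
  obtain ⟨e, rfl⟩ := hrd
  by_cases he1 : e = 1
  · subst he1
    rw [mul_one]
    rcases hd r hr (by simp) with h1 | h1
    · exact Or.inr (Or.inl h1)
    · exact Or.inr (Or.inr (Or.inl h1))
  obtain ⟨r', hr', hre⟩ := Nat.exists_prime_and_dvd he1
  have hrr' : r * r' ∣ r * e := mul_dvd_mul_left r hre
  have h1 := hd r hr (dvd_mul_right r e)
  have h2 := hd r' hr' (dvd_trans hre (dvd_mul_left e r))
  rcases h1 with h1 | h1 <;> rcases h2 with h2 | h2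
  · rw [h1, h2, ← pow_two] at hrr'
    rw [h1]
    exact Or.inr (Or.inr (Or.inr (Or.inl hrr')))
  · rw [h1, h2] at hrr'
    rw [h1]
    exact Or.inr (Or.inr (Or.inr (Or.inr (Or.inr hrr'))))
  · rw [h1, h2, mul_comm] at hrr'
    rw [h1]
    exact Or.inr (Or.inr (Or.inr (Or.inr (Or.inr hrr'))))
  · rw [h1, h2, ← pow_two] at hrr'
    rw [h1]
    exact Or.inr (Or.inr (Or.inr (Or.inr (Or.inl hrr'))))

end Cfsg.Agent.Helper5.S44
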