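import Mathlib
import Cfsg.Agent.Lib.Helper20.OrderCount

/-!
# S4004 part 2, piece S44-CP: commuting pairs give many elements of order `p * q`
RECIPE.  Choose `y x` (`Classical.choose`) of order `q` commuting with `x` for each `x` of order `p`.
`f : {x : G // orderOf x = p} × Fin 2 → {z : G // orderOf z = p * q}`,
`f (x, e) = x * (y x) ^ (e + 1)`.  Orders: `(y x) ^ 2` has order `q` (`q` odd prime:
`orderOf_pow_coprime`/`Nat.Coprime`), commutes with `x`, and
`Commute.orderOf_mul_eq_mul_orderOf_of_coprime` gives order `p * q`.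
Injective: pick `k` with `k ≡ 1 [MOD p]`, `k ≡ 0 [MOD q]` (`Nat.chineseRemainder` for the coprime
pair `p q`); then `(x * w) ^ k = x ^ k * w ^ k = x` when `w ^ q = 1`, `x ^ p = 1`, `Commute x w`
(`Commute.mul_pow`, `pow_eq_pow_mod`/`pow_mod_orderOf`).  So `f (x,e) = f (x',e')` gives `x = x'`,
then `(y x)^(e+1) = (y x)^(e'+1)`, and `y x ≠ (y x)^2` since `y x ≠ 1`.
Conclude with `Nat.card_le_card_of_injective` (target finite), `Nat.card_prod`, `Nat.card_fin`,
`ordCnt_def`.  Aux names: prefix `s44cp_`.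
-/

set_option autoImplicit false

namespace Cfsg.Agent.Helper5.S44

open Cfsg.Agent.Helper20 (ordCnt)

variable {G : Type*} [Group G] [Finite G]

theorem s44_two_mul_le {p q : ℕ} (hp : p.Prime) (hq : q.Prime) (hpq : p ≠ q) (hq2 : q ≠ 2)
    (hc : ∀ x : G, orderOf x = p → ∃ y : G, orderOf y = q ∧ Commute x y) :
    2 * ordCnt G p ≤ ordCnt G (p * q) := by
  sorry

end Cfsg.Agent.Helper5.S44
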