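import Mathlib
import Cfsg.Prelude.Def_Solvable
import Cfsg.Agent.S0039

/-!
# S4004 part 2, piece S44-FROB: `Q` is a Frobenius complement in `A ⊔ Q`
`Cfsg.Agent.S0039.result (K H : Subgroup G) [K.Normal] (hc : Subgroup.IsComplement' K H)
  (hK : K ≠ ⊥) (hH : H ≠ ⊥) : IsFrobeniusComplement H ↔ ∀ h ∈ H, h ≠ 1 → K ⊓ centralizer {h} = ⊥`
(for a finite group).
RECIPE.  Work in `K := ↥(A ⊔ Q)` with `A' := A.subgroupOf (A ⊔ Q)` (normal:
`Subgroup.Normal.subgroupOf`/`inferInstance`) and `Q' := Q.subgroupOf (A ⊔ Q)`.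
`A ⊓ Q = ⊥`: `a ^ p = 1`, `a ^ q = 1`, `p.Coprime q` ⇒ `a = 1` (`orderOf_dvd_of_pow_eq_one`,
`Nat.Coprime.eq_one_of_dvd`/`Nat.eq_one_of_dvd_coprimes`).  Complement: e.g.
`Subgroup.isComplement'_of_disjoint_and_mul_eq_univ`, or `isComplement'_of_card_mul_and_disjoint`,
using `Subgroup.mul_normal`/`Subgroup.normal_mul` (`↑(A ⊔ Q) = ↑A * ↑Q`).  `A' ≠ ⊥`, `Q' ≠ ⊥` from
`hA`, `hQ1` (`Subgroup.subgroupOf_eq_bot`, `le_sup_left/right`).  Fixed points: if `v ∈ A'`, `v ≠ 1`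
commutes with `h ∈ Q'`, `h ≠ 1`: `orderOf (v : G) = p`, `orderOf (h : G) = q`
(`orderOf_eq_prime`), `Commute.orderOf_mul_eq_mul_orderOf_of_coprime` ⇒ order `p * q`, contradicting
`hord` (`p * q ≠ 1, p, q`).  Aux names: prefix `s44frob_`.
-/

set_option autoImplicit false

namespace Cfsg.Agent.Helper5.S44

variable {G : Type*} [Group G] [Finite G]

omit [Finite G] in
theorem s44frob_subgroupOf_ne_bot {H T : Subgroup G} (hle : H ≤ T) (hH : H ≠ ⊥) :
    H.subgroupOf T ≠ ⊥ := by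
  intro h
  rw [Subgroup.subgroupOf_eq_bot, disjoint_iff, inf_eq_left.mpr hle] at h
  exact hH h

theorem s44_frob_sup {p q : ℕ} (hp : p.Prime) (hq : q.Prime) (hpq : p ≠ q)
    (hord : ∀ g : G, orderOf g = 1 ∨ orderOf g = p ∨ orderOf g = q)
    (A : Subgroup G) [A.Normal] (hA : A ≠ ⊥) (hAp : ∀ a ∈ A, a ^ p = 1)
    (Q : Subgroup G) (hQ1 : Q ≠ ⊥) (hQq : ∀ t ∈ Q, t ^ q = 1) :
    Cfsg.IsFrobeniusComplement (Q.subgroupOf (A ⊔ Q)) := by
  haveI : Fact p.Prime := ⟨hp⟩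
  haveI : Fact q.Prime := ⟨hq⟩
  have hcop : p.Coprime q := (Nat.coprime_primes hp hq).mpr hpq
  have hAQ : ∀ x : G, x ∈ A → x ∈ Q → x = 1 := by
    intro x hxA hxQ
    have h1 : orderOf x ∣ p := orderOf_dvd_of_pow_eq_one (hAp x hxA)
    have h2 : orderOf x ∣ q := orderOf_dvd_of_pow_eq_one (hQq x hxQ)
    have h3 : orderOf x = 1 := Nat.eq_one_of_dvd_coprimes hcop h1 h2
    exact orderOf_eq_one_iff.mp h3
  have hc : Subgroup.IsComplement' (A.subgroupOf (A ⊔ Q)) (Q.subgroupOf (A ⊔ Q)) := by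
    apply Subgroup.isComplement'_of_disjoint_and_mul_eq_univ
    · rw [Subgroup.disjoint_def]
      intro x hxA hxQ
      rw [Subgroup.mem_subgroupOf] at hxA hxQ
      exact Subtype.ext (hAQ x.1 hxA hxQ)
    · rw [Set.eq_univ_iff_forall]
      intro x
      have hx : (x : G) ∈ ((A ⊔ Q : Subgroup G) : Set G) := x.2
      rw [Subgroup.normal_mul] at hx
      obtain ⟨a, ha, t, ht, hat⟩ := hx
      refine ⟨⟨a, (le_sup_left : A ≤ A ⊔ Q) ha⟩, ?_, ⟨t, (le_sup_right : Q ≤ A ⊔ Q) ht⟩, ?_, ?_⟩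
      · exact Subgroup.mem_subgroupOf.mpr ha
      · exact Subgroup.mem_subgroupOf.mpr ht
      · exact Subtype.ext hat
  have hA' : A.subgroupOf (A ⊔ Q) ≠ ⊥ := s44frob_subgroupOf_ne_bot le_sup_left hA
  have hQ' : Q.subgroupOf (A ⊔ Q) ≠ ⊥ := s44frob_subgroupOf_ne_bot le_sup_right hQ1
  refine (Cfsg.Agent.S0039.result (A.subgroupOf (A ⊔ Q)) (Q.subgroupOf (A ⊔ Q)) hc hA' hQ').mpr ?_
  intro h hh hh1
  rw [eq_bot_iff]
  intro v hv
  rw [Subgroup.mem_bot]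
  by_contra hv1
  obtain ⟨hvA0, hvC⟩ := Subgroup.mem_inf.mp hv
  have hvA : (v : G) ∈ A := Subgroup.mem_subgroupOf.mp hvA0
  have hh : (h : G) ∈ Q := Subgroup.mem_subgroupOf.mp hh
  have hvG : (v : G) ≠ 1 := fun h0 => hv1 (Subtype.ext h0)
  have hhG : (h : G) ≠ 1 := fun h0 => hh1 (Subtype.ext h0)
  have hov : orderOf (v : G) = p := orderOf_eq_prime (hAp _ hvA) hvG
  have hoh : orderOf (h : G) = q := orderOf_eq_prime (hQq _ hh) hhG
  have hcomm : Commute (v : G) (h : G) := by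
    have h1 := (Subgroup.mem_centralizer_iff.mp hvC) h (Set.mem_singleton h)
    have h2 : (h : G) * (v : G) = (v : G) * (h : G) := congrArg Subtype.val h1
    exact h2.symm
  have hmul : orderOf ((v : G) * (h : G)) = p * q := by
    rw [hcomm.orderOf_mul_eq_mul_orderOf_of_coprime (by rw [hov, hoh]; exact hcop), hov, hoh]
  have hp2 := hp.two_le
  have hq2 := hq.two_le
  rcases hord ((v : G) * (h : G)) with h1 | h1 | h1
  · rw [hmul] at h1
    nlinarith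
  · rw [hmul] at h1
    have : p * q = p * 1 := by rw [h1, mul_one]
    have := Nat.eq_of_mul_eq_mul_left hp.pos this
    omega
  · rw [hmul] at h1
    have : p * q = 1 * q := by rw [h1, one_mul]
    have := Nat.eq_of_mul_eq_mul_right hq.pos this
    omega

end Cfsg.Agent.Helper5.S44
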