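import Mathlib
import Cfsg.Prelude.Def_Solvable
import Cfsg.Agent.Lib.Helper5.FCBasic
import Cfsg.Agent.Lib.Helper5.FCSylow
import Cfsg.Agent.Lib.SOT4.S44Frob

/-!
# S4004 part 2, piece S44-CYC: the Sylow `q`-subgroup has order `q`
RECIPE.  `Q ≠ ⊥` (`q ∣ Nat.card G`; `Sylow.ne_bot_of_dvd_card`).  `hQq : ∀ t ∈ Q, t ^ q = 1`: the
order of `t` is a power of `q` (`Q.isPGroup'`) and is `1`, `p` or `q` (`hord`), `p ≠ q`.
`hF := s44_frob_sup hp hq.out hpq hord A hA hAp Q hQ1 hQq`.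
`Cfsg.Agent.Helper5.fcFacts_of_embedding (H : Subgroup L) (hH : IsFrobeniusComplement H)
  (ι : G' →* L) (hι : Injective ι) (hιH : ∀ g, ι g ∈ H) : FCFacts G'` with `L := ↥(A ⊔ Q)`,
`H := Q.subgroupOf (A ⊔ Q)`, `G' := ↥Q`, `ι := Subgroup.inclusion le_sup_right`
(`Subgroup.mem_subgroupOf`) gives `FCFacts ↥Q`;
`FCFacts.isCyclic_of_isPGroup_odd (hodd : Odd q) (hG : IsPGroup q ↥Q) : IsCyclic ↥Q`.
A generator `g` (`IsCyclic.exists_generator`) has `orderOf g = Nat.card ↥Q`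
(`orderOf_eq_card_of_forall_mem_zpowers`), `g ^ q = 1`, so `Nat.card ↥Q ∣ q`; it is not `1`.
Aux names: prefix `s44cyc_`.
-/

set_option autoImplicit false

namespace Cfsg.Agent.Helper5.S44

variable {G : Type*} [Group G] [Finite G]

theorem s44_card_sylow {p q : ℕ} (hp : p.Prime) [hq : Fact q.Prime] (hpq : p ≠ q) (hq2 : q ≠ 2)
    (hqN : q ∣ Nat.card G)
    (hord : ∀ g : G, orderOf g = 1 ∨ orderOf g = p ∨ orderOf g = q)
    (A : Subgroup G) [A.Normal] (hA : A ≠ ⊥) (hAp : ∀ a ∈ A, a ^ p = 1) (Q : Sylow q G) :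
    Nat.card ↥(Q : Subgroup G) = q := by
  sorry

end Cfsg.Agent.Helper5.S44
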