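import Mathlib

/-!
# S4004 part 2, piece S44-EXP: Sylow exponents when all elements have order `1`, `p`, `q`
RECIPE.  `P ≠ ⊥` since `r ∣ Nat.card G` (`Sylow.ne_bot_of_dvd_card` or `Sylow.card_eq_multiplicity`
+ `Nat.card_pos`).  For `g ∈ P`: `orderOf g` is a power of `r` (`P.isPGroup'`,
`IsPGroup.iff_orderOf`/`exists_orderOf_eq_prime_pow`) and is `1`, `p` or `q` (`hord`, with
`Subgroup.orderOf_coe`); a prime that is a power `r ^ k` equals `r` (`Nat.prime_dvd_prime_iff_eq`,
`Nat.Prime.eq_one_of_pos_of_dvd`/`(Nat.prime_pow_iff …)`), so `g ^ r = 1` in every case.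
`Monoid.exponent_dvd_of_forall_pow_eq_one` ⇒ `exponent ∣ r`, so it is `1` or `r`; exponent `1` means
`P` trivial (`Monoid.exp_eq_one_iff`/`Monoid.exponent_eq_one_iff` gives `Subsingleton`).
Aux names: prefix `s44exp_`.
-/

set_option autoImplicit false

namespace Cfsg.Agent.Helper5.S44

variable {G : Type*} [Group G] [Finite G]

theorem s44_exponent {p q : ℕ} (hp : p.Prime) (hq : q.Prime)
    (hord : ∀ g : G, orderOf g = 1 ∨ orderOf g = p ∨ orderOf g = q)
    (r : ℕ) [Fact r.Prime] (P : Sylow r G) (hr : r ∣ Nat.card G) :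
    Monoid.exponent ↥(P : Subgroup G) = r := by
  sorry

end Cfsg.Agent.Helper5.S44
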