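import Mathlib
import Cfsg.Agent.Lib.Helper20.OrderCount

/-!
# S4004 part 2, piece S44-FIX: a `p`-element fixes an element of order `k` under conjugation
RECIPE.  `σ : y ↦ x * y * x⁻¹` is a permutation of `X = {y : G // orderOf y = k}` (`orderOf_conj`-type
lemma: `orderOf (x * y * x⁻¹) = orderOf y`) with `σ ^ p = 1` (`x ^ p = 1`).  Either use
`Equiv.Perm.card_fixedPoints_modEq` (`σ ^ p ^ 1 = 1`), or make `Subgroup.zpowers x` (an
`IsPGroup p`, `IsPGroup.of_card`) act on `X` by conjugation and use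
`IsPGroup.card_modEq_card_fixedPoints` / `IsPGroup.nonempty_fixedPoint_of_prime_not_dvd_card`.
`Nat.card X = ordCnt G k` by `rfl` (`ordCnt_def`).  A fixed point `y` gives `x * y * x⁻¹ = y`,
i.e. `Commute x y`.  Aux names: prefix `s44fix_`.
-/

set_option autoImplicit false

namespace Cfsg.Agent.Helper5.S44

open Cfsg.Agent.Helper20 (ordCnt)

variable {G : Type*} [Group G] [Finite G]

theorem s44_exists_commute {p : ℕ} (hp : p.Prime) {k : ℕ} (hnd : ¬ p ∣ ordCnt G k) (x : G)
    (hx : orderOf x = p) : ∃ y : G, orderOf y = k ∧ Commute x y := by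
  sorry

end Cfsg.Agent.Helper5.S44
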