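import Mathlib

/-!
# S4004 part 2, piece S44-NGA: two small facts on `x` normalizing `⟨y⟩`
RECIPE `s44_nga_conj_mem`: `t = y ^ k` (`Subgroup.mem_zpowers_iff`), `x * y^k * x⁻¹ = (x*y*x⁻¹)^k`
(`conj_zpow`), `Subgroup.zpow_mem`.
RECIPE `s44_nga_comm`: `by_contra ht`; `t ∈ zpowers y`, `t ≠ 1`: `t ^ q = 1` so `orderOf t = q`
(`orderOf_eq_prime`); `orderOf (x ^ i) = p` (`i.Coprime p` since `0 < i < p`:
`Nat.Coprime.orderOf_pow`/`orderOf_pow_coprime`); they commute and `p.Coprime q`, so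
`Commute.orderOf_mul_eq_mul_orderOf_of_coprime` gives an element of order `q * p`, which is not
`1`, `p`, `q` — contradiction with `hord`.  Aux names: prefix `s44nga_`.
-/

set_option autoImplicit false

namespace Cfsg.Agent.Helper5.S44

variable {G : Type*} [Group G]

theorem s44_nga_conj_mem (x y : G) (hn : x * y * x⁻¹ ∈ Subgroup.zpowers y) :
    ∀ t ∈ Subgroup.zpowers y, x * t * x⁻¹ ∈ Subgroup.zpowers y := by
  sorry

theorem s44_nga_comm {p q : ℕ} (hp : p.Prime) (hq : q.Prime) (hpq : p ≠ q)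
    (hord : ∀ g : G, orderOf g = 1 ∨ orderOf g = p ∨ orderOf g = q)
    (x y : G) (hx : orderOf x = p) (hy : orderOf y = q) :
    ∀ i, 0 < i → i < p → ∀ t ∈ Subgroup.zpowers y, t * x ^ i = x ^ i * t → t = 1 := by
  sorry

end Cfsg.Agent.Helper5.S44
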