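import Mathlib

/-!
# S4004 part 2, piece S44-NGB: the `⟨y⟩`-norm of `v ∈ A` is trivial (no fixed points)
RECIPE.  `w := ∏ t : zpowers y, MulAut.conjNormal (t : G) v : ↥A`.  `MulAut.conjNormal y w = w`:
`map_prod`, `← MulAut.mul_apply`, `← map_mul`, then reindex by the bijection `t ↦ ⟨y, _⟩ * t` of
`zpowers y` (`Fintype.prod_bijective`/`Equiv.prod_comp (Equiv.mulLeft _)`).  So
`y * w * y⁻¹ = w` in `G` (`MulAut.conjNormal_apply`), i.e. `Commute (w : G) y`.  If `w ≠ 1`:
`orderOf (w : G) = p` (`hAp`, `orderOf_eq_prime`), `orderOf y = q`, coprime, so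
`Commute.orderOf_mul_eq_mul_orderOf_of_coprime` gives order `p * q`, contradicting `hord`.
Aux names: prefix `s44ngb_`.
-/

set_option autoImplicit false

namespace Cfsg.Agent.Helper5.S44

open scoped IsMulCommutative

variable {G : Type*} [Group G]

theorem s44_ngb_prod_eq_one {p q : ℕ} (hp : p.Prime) (hq : q.Prime) (hpq : p ≠ q)
    (hord : ∀ g : G, orderOf g = 1 ∨ orderOf g = p ∨ orderOf g = q)
    (A : Subgroup G) [A.Normal] [IsMulCommutative A] (hAp : ∀ a ∈ A, a ^ p = 1)
    (y : G) (hy : orderOf y = q) [Fintype (Subgroup.zpowers y)] (v : A) :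
    ∏ t : Subgroup.zpowers y, MulAut.conjNormal (t : G) v = 1 := by
  sorry

end Cfsg.Agent.Helper5.S44
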