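import Mathlib

/-!
# S4004 part 2, piece S44-POW: `(v x)^n = (∏_{i<n} x^i v x^-i) x^n` for `v` in a normal abelian subgroup
RECIPE.  Induction on `n`: `pow_succ`, `Finset.prod_range_succ`, `Subgroup.coe_mul`,
`MulAut.conjNormal_apply : ↑(MulAut.conjNormal g h) = g * h * g⁻¹`; then `group`/`simp [mul_assoc]`.
(`(v x)^(n+1) = (v x)^n * (v x) = P_n * x^n * v * x = P_n * (x^n * v * x^-n) * x^(n+1)`.)
The `CommGroup ↥A` structure comes from `open scoped IsMulCommutative` (scoped instance
`Group M + IsMulCommutative M → CommGroup M`).  Aux names: prefix `s44pow_`.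
-/

set_option autoImplicit false

namespace Cfsg.Agent.Helper5.S44

open scoped IsMulCommutative

theorem s44_mul_pow {G : Type*} [Group G] (A : Subgroup G) [A.Normal] [IsMulCommutative A]
    (x : G) (v : A) (n : ℕ) :
    ((v : G) * x) ^ n
      = ((∏ i ∈ Finset.range n, MulAut.conjNormal (x ^ i) v : A) : G) * x ^ n := by
  induction n with
  | zero => simp
  | succ n ih =>
    rw [pow_succ, ih, Finset.prod_range_succ, Subgroup.coe_mul, MulAut.conjNormal_apply, pow_succ]
    generalize ((∏ i ∈ Finset.range n, MulAut.conjNormal (x ^ i) v : A) : G) = P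
    generalize x ^ n = y
    group

end Cfsg.Agent.Helper5.S44
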