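import Mathlib
import Cfsg.Agent.Lib.SOT4.S44Pow

/-!
# S4004 part 2, piece S44-NGC: the `x`-norm of `v ∈ A` is trivial (exponent `p`)
RECIPE.  `z := (v : G) * x`.  `s44_mul_pow A x v n : z ^ n = ↑(∏ i ∈ range n, conjNormal (x^i) v) * x ^ n`.
Claim `z ^ p = 1`; then with `n = p`, `x ^ p = 1` (`hx ▸ pow_orderOf_eq_one x`) the coercion of the
product is `1`, done (`Subtype.ext`, `OneMemClass.coe_one`).
Claim: `hord z` gives `orderOf z = 1`, `p` (then `z ^ p = 1`, `pow_orderOf_eq_one`) or `q`.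
If `orderOf z = q`: `z ^ q = 1`, so by `s44_mul_pow` with `n = q`: `x ^ q = (↑P)⁻¹ ∈ A`.  As
`q.Coprime (orderOf x)`, `exists_pow_eq_self_of_coprime` gives `x ∈ A`.  Then
`c := x * y * x⁻¹ * y⁻¹` lies in `A` (`x ∈ A`, `y * x⁻¹ * y⁻¹ ∈ A` by normality:
`‹A.Normal›.conj_mem`) and in `zpowers y` (`hn`, `Subgroup.mul_mem`, `inv_mem`); so `c ^ p = 1`
(`hAp`) and `c ^ q = 1` (`c = y ^ k`, `hy`), hence `c = 1` (`p.Coprime q`), `Commute x y`;
`Commute.orderOf_mul_eq_mul_orderOf_of_coprime` gives `orderOf (x * y) = p * q`, contradiction with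
`hord`.  Aux names: prefix `s44ngc_`.
-/

set_option autoImplicit false

namespace Cfsg.Agent.Helper5.S44

open scoped IsMulCommutative

variable {G : Type*} [Group G]

theorem s44_ngc_norm_eq_one {p q : ℕ} (hp : p.Prime) (hq : q.Prime) (hpq : p ≠ q)
    (hord : ∀ g : G, orderOf g = 1 ∨ orderOf g = p ∨ orderOf g = q)
    (A : Subgroup G) [A.Normal] [IsMulCommutative A] (hAp : ∀ a ∈ A, a ^ p = 1)
    (x y : G) (hx : orderOf x = p) (hy : orderOf y = q)
    (hn : x * y * x⁻¹ ∈ Subgroup.zpowers y) (v : A) :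
    ∏ i ∈ Finset.range p, MulAut.conjNormal (x ^ i) v = 1 := by
  have hxp : x ^ p = 1 := by
    rw [← hx]
    exact pow_orderOf_eq_one x
  have hyq : y ^ q = 1 := by
    rw [← hy]
    exact pow_orderOf_eq_one y
  have hcop : Nat.Coprime p q := (Nat.coprime_primes hp hq).2 hpq
  have hp2 := hp.two_le
  have hq2 := hq.two_le
  have hz : ((v : G) * x) ^ p = 1 := by
    rcases hord ((v : G) * x) with h1 | h1 | h1
    · rw [orderOf_eq_one_iff] at h1
      rw [h1, one_pow]
    · rw [← h1]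
      exact pow_orderOf_eq_one _
    · exfalso
      have hzq : ((v : G) * x) ^ q = 1 := by
        rw [← h1]
        exact pow_orderOf_eq_one _
      rw [s44_mul_pow A x v q] at hzq
      have hxqA : x ^ q ∈ A := by
        rw [eq_inv_of_mul_eq_one_right hzq]
        exact inv_mem (SetLike.coe_mem _)
      have hxA : x ∈ A := by
        obtain ⟨m, hm⟩ := exists_pow_eq_self_of_coprime (x := x) (n := q) (by
          rw [hx]
          exact hcop.symm)
        rw [← hm]
        exact pow_mem hxqA m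
      have hcA : x * y * x⁻¹ * y⁻¹ ∈ A := by
        have h2 : y * x⁻¹ * y⁻¹ ∈ A := (inferInstance : A.Normal).conj_mem _ (inv_mem hxA) y
        have e : x * y * x⁻¹ * y⁻¹ = x * (y * x⁻¹ * y⁻¹) := by group
        rw [e]
        exact mul_mem hxA h2
      have hcY : x * y * x⁻¹ * y⁻¹ ∈ Subgroup.zpowers y :=
        mul_mem hn (inv_mem (Subgroup.mem_zpowers y))
      have hcp : (x * y * x⁻¹ * y⁻¹) ^ p = 1 := hAp _ hcA
      have hcq : (x * y * x⁻¹ * y⁻¹) ^ q = 1 := by
        obtain ⟨k, hk⟩ := Subgroup.mem_zpowers_iff.1 hcY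
        rw [← hk, ← zpow_natCast, ← zpow_mul, mul_comm, zpow_mul, zpow_natCast, hyq, one_zpow]
      have hc1 : x * y * x⁻¹ * y⁻¹ = 1 := by
        have h3 : orderOf (x * y * x⁻¹ * y⁻¹) ∣ p := orderOf_dvd_of_pow_eq_one hcp
        have h4 : orderOf (x * y * x⁻¹ * y⁻¹) ∣ q := orderOf_dvd_of_pow_eq_one hcq
        have h5 := Nat.dvd_gcd h3 h4
        rw [hcop.gcd_eq_one] at h5
        exact orderOf_eq_one_iff.1 (Nat.dvd_one.1 h5)
      have hcomm : Commute x y := by
        show x * y = y * x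
        calc x * y = (x * y * x⁻¹ * y⁻¹) * (y * x) := by group
          _ = y * x := by rw [hc1, one_mul]
      have hxy := hcomm.orderOf_mul_eq_mul_orderOf_of_coprime (by
        rw [hx, hy]
        exact hcop)
      rw [hx, hy] at hxy
      rcases hord (x * y) with h6 | h6 | h6
      · rw [hxy] at h6
        nlinarith
      · rw [hxy] at h6
        nlinarith
      · rw [hxy] at h6
        nlinarith
  rw [s44_mul_pow A x v p, hxp, mul_one] at hz
  exact Subtype.ext hz

end Cfsg.Agent.Helper5.S44
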