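import Mathlib

/-!
# S4004 part 2, piece S44-NORM: the norm trick (a Frobenius group of order `p q` acting)
`Γ` acts on the commutative group `A` through `ρ`; `Q ≤ Γ` finite, normalized by `x`; no nonidentity
element of `Q` commutes with `x ^ i` (`0 < i < p`); the norm `∏_{i<p} x^i • v` is trivial, and so
is `∏_{t ∈ Q} t • v`.  Then `v ^ |Q| = 1`.
RECIPE.  Fix `v`.  `S := ∏ t : Q, ρ t (∏ i ∈ range p, ρ (x^i) (ρ (t⁻¹) v))`.  (a) `S = 1` by `hx`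
(`map_one`, `Finset.prod_const_one`).  (b) `map_prod`, `← MulAut.mul_apply`/`map_mul`:
`S = ∏ t, ∏ i, ρ (t * x^i * t⁻¹) v`; `Finset.prod_comm`; split `i = 0` (write `p = p' + 1`,
`Finset.prod_range_succ'`): the `i = 0` factor is `∏ t : Q, v = v ^ Fintype.card Q`
(`Finset.prod_const`, `Finset.card_univ`).  (c) for `0 < i < p`: `x^i * s * (x^i)⁻¹ ∈ Q` for
`s ∈ Q` (induction from `hxQ`); `φ t := t * (x^i * t⁻¹ * (x^i)⁻¹) : Q → Q` is injective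
(`φ t = φ t'` ⇒ `t * x^i * t⁻¹ = t' * x^i * t'⁻¹` ⇒ `(t'⁻¹ * t)` commutes with `x^i` ⇒ `= 1` by
`hcomm`), hence bijective (`Finite.injective_iff_bijective`), and
`t * x^i * t⁻¹ = φ t * x^i`, so `∏ t, ρ (t * x^i * t⁻¹) v = ∏ t, ρ (φ t) (ρ (x^i) v)
= ∏ t, ρ t (ρ (x^i) v) = 1` (`Function.Bijective.prod_comp`/`Fintype.prod_bijective`, `hQ`).
Aux names: prefix `s44norm_`.
-/

set_option autoImplicit false

namespace Cfsg.Agent.Helper5.S44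

theorem s44norm_pow_conj_mem {Γ : Type*} [Group Γ] (x : Γ) (Q : Subgroup Γ)
    (hxQ : ∀ t ∈ Q, x * t * x⁻¹ ∈ Q) (i : ℕ) : ∀ t ∈ Q, x ^ i * t * (x ^ i)⁻¹ ∈ Q := by
  induction i with
  | zero => intro t ht; simpa using ht
  | succ k ih =>
    intro t ht
    have h1 := hxQ _ (ih t ht)
    have h2 : x ^ (k + 1) * t * (x ^ (k + 1))⁻¹ = x * (x ^ k * t * (x ^ k)⁻¹) * x⁻¹ := by
      rw [pow_succ']
      group
    rw [h2]
    exact h1

theorem s44norm_inner {Γ A : Type*} [Group Γ] [CommGroup A] (ρ : Γ →* MulAut A) (y : Γ)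
    (Q : Subgroup Γ) [Fintype Q]
    (hyQ : ∀ t ∈ Q, y * t * y⁻¹ ∈ Q)
    (hcomm : ∀ t ∈ Q, t * y = y * t → t = 1)
    (hQ : ∀ v : A, ∏ t : Q, ρ (t : Γ) v = 1) (v : A) :
    ∏ t : Q, ρ ((t : Γ) * y * (t : Γ)⁻¹) v = 1 := by
  classical
  let φ : Q → Q := fun t => ⟨(t : Γ) * (y * (t : Γ)⁻¹ * y⁻¹), Q.mul_mem t.2 (hyQ _ (Q.inv_mem t.2))⟩
  have hφinj : Function.Injective φ := by
    intro t t' h
    have h1 : (t : Γ) * (y * (t : Γ)⁻¹ * y⁻¹) = (t' : Γ) * (y * (t' : Γ)⁻¹ * y⁻¹) :=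
      congrArg Subtype.val h
    have h2 : ((t' : Γ)⁻¹ * (t : Γ)) * y = y * ((t' : Γ)⁻¹ * (t : Γ)) := by
      have h3 : (t : Γ) * y * (t : Γ)⁻¹ = (t' : Γ) * y * (t' : Γ)⁻¹ := by
        have := congrArg (fun g => g * y) h1
        simpa [mul_assoc] using this
      calc ((t' : Γ)⁻¹ * (t : Γ)) * y = (t' : Γ)⁻¹ * ((t : Γ) * y * (t : Γ)⁻¹) * (t : Γ) := by group
        _ = (t' : Γ)⁻¹ * ((t' : Γ) * y * (t' : Γ)⁻¹) * (t : Γ) := by rw [h3]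
        _ = y * ((t' : Γ)⁻¹ * (t : Γ)) := by group
    have h4 := hcomm _ (Q.mul_mem (Q.inv_mem t'.2) t.2) h2
    apply Subtype.ext
    have : (t : Γ) = (t' : Γ) * ((t' : Γ)⁻¹ * (t : Γ)) := by group
    rw [this, h4, mul_one]
  have hφbij : Function.Bijective φ := Finite.injective_iff_bijective.1 hφinj
  have h5 : ∀ t : Q, ρ ((t : Γ) * y * (t : Γ)⁻¹) v = ρ ((φ t : Q) : Γ) (ρ y v) := by
    intro t
    rw [← MulAut.mul_apply, ← map_mul]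
    congr 2
    show (t : Γ) * y * (t : Γ)⁻¹ = (t : Γ) * (y * (t : Γ)⁻¹ * y⁻¹) * y
    group
  rw [Finset.prod_congr rfl (fun t _ => h5 t)]
  rw [hφbij.prod_comp (fun t : Q => ρ (t : Γ) (ρ y v))]
  exact hQ _

theorem s44_norm {Γ A : Type*} [Group Γ] [CommGroup A] (ρ : Γ →* MulAut A) (x : Γ) (p : ℕ)
    (hp : 0 < p) (Q : Subgroup Γ) [Fintype Q]
    (hxQ : ∀ t ∈ Q, x * t * x⁻¹ ∈ Q)
    (hcomm : ∀ i, 0 < i → i < p → ∀ t ∈ Q, t * x ^ i = x ^ i * t → t = 1)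
    (hx : ∀ v : A, ∏ i ∈ Finset.range p, ρ (x ^ i) v = 1)
    (hQ : ∀ v : A, ∏ t : Q, ρ (t : Γ) v = 1) :
    ∀ v : A, v ^ Fintype.card Q = 1 := by
  classical
  intro v
  have hS1 : ∏ t : Q, ρ (t : Γ) (∏ i ∈ Finset.range p, ρ (x ^ i) (ρ ((t : Γ)⁻¹) v)) = 1 := by
    apply Finset.prod_eq_one
    intro t _
    rw [hx, map_one]
  have hS2 : ∏ t : Q, ρ (t : Γ) (∏ i ∈ Finset.range p, ρ (x ^ i) (ρ ((t : Γ)⁻¹) v)) =
      ∏ i ∈ Finset.range p, ∏ t : Q, ρ ((t : Γ) * x ^ i * (t : Γ)⁻¹) v := by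
    rw [Finset.prod_comm]
    apply Finset.prod_congr rfl
    intro t _
    rw [map_prod]
    apply Finset.prod_congr rfl
    intro i _
    rw [map_mul, map_mul, MulAut.mul_apply, MulAut.mul_apply]
  have hS3 : ∀ i ∈ Finset.range p, ∏ t : Q, ρ ((t : Γ) * x ^ i * (t : Γ)⁻¹) v =
      if i = 0 then v ^ Fintype.card Q else 1 := by
    intro i hi
    rw [Finset.mem_range] at hi
    by_cases h0 : i = 0
    · subst h0
      simp [Finset.prod_const, Finset.card_univ]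
    · rw [if_neg h0]
      exact s44norm_inner ρ (x ^ i) Q (s44norm_pow_conj_mem x Q hxQ i)
        (hcomm i (Nat.pos_of_ne_zero h0) hi) hQ v
  rw [hS2, Finset.prod_congr rfl hS3, Finset.prod_ite_eq' (Finset.range p) 0
    (fun _ => v ^ Fintype.card Q), if_pos (Finset.mem_range.2 hp)] at hS1
  exact hS1

end Cfsg.Agent.Helper5.S44
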