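import Mathlib
import Cfsg.Agent.Lib.SOT4.S44Norm
import Cfsg.Agent.Lib.SOT4.S44NGa
import Cfsg.Agent.Lib.SOT4.S44NGb
import Cfsg.Agent.Lib.SOT4.S44NGc

/-!
# S4004 part 2: no element of order `p` normalizes `⟨y⟩` (assembly of S44-NORM, S44-NGA/B/C)
-/

set_option autoImplicit false

namespace Cfsg.Agent.Helper5.S44

open scoped IsMulCommutative

variable {G : Type*} [Group G] [Finite G]

theorem s44_not_normalizes {p q : ℕ} (hp : p.Prime) (hq : q.Prime) (hpq : p ≠ q)
    (hord : ∀ g : G, orderOf g = 1 ∨ orderOf g = p ∨ orderOf g = q)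
    (A : Subgroup G) [A.Normal] (hA : A ≠ ⊥) (hAp : ∀ a ∈ A, a ^ p = 1)
    (hAc : ∀ a ∈ A, ∀ b ∈ A, a * b = b * a)
    (x y : G) (hx : orderOf x = p) (hy : orderOf y = q)
    (hn : x * y * x⁻¹ ∈ Subgroup.zpowers y) : False := by
  classical
  haveI : IsMulCommutative A := ⟨⟨fun a b => Subtype.ext (hAc a a.2 b b.2)⟩⟩
  haveI : Fintype (Subgroup.zpowers y) := Fintype.ofFinite _
  have key := s44_norm (MulAut.conjNormal (H := A)) x p hp.pos (Subgroup.zpowers y)
    (s44_nga_conj_mem x y hn) (s44_nga_comm hp hq hpq hord x y hx hy)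
    (fun v => s44_ngc_norm_eq_one hp hq hpq hord A hAp x y hx hy hn v)
    (fun v => s44_ngb_prod_eq_one hp hq hpq hord A hAp y hy v)
  have hcard : Fintype.card (Subgroup.zpowers y) = q := by
    rw [← Nat.card_eq_fintype_card, Nat.card_zpowers, hy]
  apply hA
  rw [eq_bot_iff]
  intro a ha
  have h1 := key ⟨a, ha⟩
  rw [hcard] at h1
  have h2 : a ^ q = 1 := by
    have := congrArg (Subtype.val) h1
    simpa using this
  have h3 : a ^ p = 1 := hAp a ha
  have h4 : orderOf a ∣ q := orderOf_dvd_of_pow_eq_one h2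
  have h5 : orderOf a ∣ p := orderOf_dvd_of_pow_eq_one h3
  have hcop : Nat.Coprime p q := (Nat.coprime_primes hp hq).2 hpq
  have h6 : orderOf a = 1 := Nat.eq_one_of_dvd_coprimes hcop h5 h4
  rw [Subgroup.mem_bot]
  exact orderOf_eq_one_iff.mp h6

end Cfsg.Agent.Helper5.S44
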