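import Mathlib
import Cfsg.Agent.Lib.Helper20.OrderCount
import Cfsg.Agent.Lib.SOT.SOTDefs
import Cfsg.Agent.Lib.SOT4.S44Fix
import Cfsg.Agent.Lib.SOT4.S44CP
import Cfsg.Agent.Lib.SOT4.S44Ar1

/-!
# S4004 part 2: no element of order `p * q` (assembly of S44-FIX, S44-CP, S44-AR1)
-/

set_option autoImplicit false

namespace Cfsg.Agent.Helper5.S44

open Cfsg.Agent.Helper20 (ordCnt)
open Cfsg.Agent.Lead.SOT

variable {G : Type*} [Group G] [Finite G]

theorem s44_no_pq {m n : ℕ} (hfd : FD (Nat.card G) (ordCnt G) m n) {p q : ℕ} (hp : p.Prime)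
    (hq : q.Prime) (hp2 : p ≠ 2) (hq2 : q ≠ 2) (hpq : p ≠ q) (hpN : p ∣ Nat.card G)
    (hqN : q ∣ Nat.card G) (hsp : ordCnt G p = m) (hsq : ordCnt G q = n) :
    ordCnt G (p * q) = 0 := by
  by_contra hne
  rcases s44_pq_cases hfd hp hq hpq hpN hqN hsp hsq hne with ⟨h1, h2⟩ | ⟨h1, h2⟩
  · -- every element of order `p` commutes with an element of order `q`
    have hc : ∀ x : G, orderOf x = p → ∃ y : G, orderOf y = q ∧ Commute x y := by
      intro x hx
      exact s44_exists_commute hp (by rw [hsq]; exact h2) x hx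
    have hle := s44_two_mul_le hp hq hpq hq2 hc
    rw [h1, hsp] at hle
    have hm0 : m ≠ 0 := by
      rw [← hsp]
      exact hfd.cauchy p hp hpN
    omega
  · have hc : ∀ y : G, orderOf y = q → ∃ x : G, orderOf x = p ∧ Commute y x := by
      intro y hy
      exact s44_exists_commute hq (by rw [hsp]; exact h2) y hy
    have hle := s44_two_mul_le hq hp hpq.symm hp2 hc
    rw [mul_comm q p, h1, hsq] at hle
    have hn0 : n ≠ 0 := by
      rw [← hsq]
      exact hfd.cauchy q hq hqN
    omega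

end Cfsg.Agent.Helper5.S44
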