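import Mathlib
import Cfsg.Agent.Lib.Helper20.OrderCount
import Cfsg.Agent.Lib.SOT4.S44Fix

/-!
# S4004 part 2, piece S44-SEMI: no element of order `p * q` ⇒ `q ∣ #{order p ^ i}`
RECIPE.  `by_contra hnd`.  Cauchy (`exists_prime_orderOf_dvd_card'`, needs `Fact q.Prime`): `y` of
order `q`.  `s44_exists_commute hq hnd y hy` (statement only; it is a stub) gives `z` of order
`p ^ i` with `Commute y z`.  `w = z ^ p ^ (i - 1)` has order `p` (`orderOf_pow_of_dvd` as in
`Lib/SOT/SOTGrpA.lean: ordCnt_down`), commutes with `y`;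
`Commute.orderOf_mul_eq_mul_orderOf_of_coprime` ⇒ `orderOf (w * y) = p * q`;
`Cfsg.Agent.Helper20.ordCnt_pos_iff` contradicts `h0`.  Aux names: prefix `s44semi_`.
-/

set_option autoImplicit false

namespace Cfsg.Agent.Helper5.S44

open Cfsg.Agent.Helper20 (ordCnt)

variable {G : Type*} [Group G] [Finite G]

theorem s44_dvd_of_no_pq {p q : ℕ} (hp : p.Prime) (hq : q.Prime) (hpq : p ≠ q)
    (hqN : q ∣ Nat.card G) (h0 : ordCnt G (p * q) = 0) {i : ℕ} (hi : 1 ≤ i) :
    q ∣ ordCnt G (p ^ i) := by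
  by_contra hnd
  haveI : Fact q.Prime := ⟨hq⟩
  obtain ⟨y, hy⟩ := exists_prime_orderOf_dvd_card' (G := G) q hqN
  obtain ⟨z, hz, hcomm⟩ := s44_exists_commute hq hnd y hy
  have hc0 : p ^ (i - 1) ≠ 0 := (pow_pos hp.pos _).ne'
  have hpi : p ^ i = p ^ (i - 1) * p := by
    rw [← pow_succ]; congr 1; omega
  have hcd : p ^ (i - 1) ∣ orderOf z := by
    rw [hz, hpi]; exact Dvd.intro _ rfl
  have hw : orderOf (z ^ p ^ (i - 1)) = p := by
    rw [orderOf_pow_of_dvd hc0 hcd, hz, hpi]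
    exact Nat.mul_div_cancel_left p (pow_pos hp.pos _)
  have hcw : Commute (z ^ p ^ (i - 1)) y := (hcomm.pow_right _).symm
  have hco : (orderOf (z ^ p ^ (i - 1))).Coprime (orderOf y) := by
    rw [hw, hy]; exact (Nat.coprime_primes hp hq).2 hpq
  have hord : orderOf (z ^ p ^ (i - 1) * y) = p * q := by
    rw [hcw.orderOf_mul_eq_mul_orderOf_of_coprime hco, hw, hy]
  have hpos := (Cfsg.Agent.Helper20.ordCnt_pos_iff (G := G) (p * q)).2 ⟨_, hord⟩
  omega

end Cfsg.Agent.Helper5.S44
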