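import Mathlib
import Cfsg.Agent.Lib.Helper20.OrderCount
import Cfsg.Agent.Lib.SOT.SOTDefs
import Cfsg.Agent.Lib.SOT.SOTGrpA
import Cfsg.Agent.Lib.SOT4.S44NoPQ
import Cfsg.Agent.Lib.SOT4.S44Semi
import Cfsg.Agent.Lib.SOT4.S44Ar2

/-!
# S4004 part 2, piece S44-ORD: every element has order `1`, `p` or `q`
RECIPE.  `h0 := s44_no_pq …`.  `hp2z : ordCnt G (p^2) = 0`: `by_contra hne`; an element of order
`p^2` (`ordCnt_pos_iff`) gives `p^2 ∣ Nat.card G` (`orderOf_dvd_natCard`);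
`s44_dvd_of_no_pq hp hq hpq hqN h0 (i := 2)` gives `q ∣ ordCnt G (p^2)`; `s44_psq_zero hfd …`
contradicts.  `hq2z : ordCnt G (q^2) = 0` in the same way with `hfd.symm`, `mul_comm` in `h0`.
For `g`: `d = orderOf g` divides `Nat.card G`, `d ≠ 0`; its prime divisors are `p` or `q` (`hpf`);
`s44_dvd_cases` leaves `p^2 ∣ d`, `q^2 ∣ d` or `p*q ∣ d`; `ordCnt G d ≠ 0`
(`ordCnt_pos_iff`), and `Cfsg.Agent.Lead.SOT.ordCnt_down` (or `hfd.down`) contradicts the three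
vanishing results.  Aux names: prefix `s44ord_`.
-/

set_option autoImplicit false

namespace Cfsg.Agent.Helper5.S44

open Cfsg.Agent.Helper20 (ordCnt)
open Cfsg.Agent.Lead.SOT

variable {G : Type*} [Group G] [Finite G]

theorem s44_orders {m n : ℕ} (hfd : FD (Nat.card G) (ordCnt G) m n) {p q : ℕ} (hp : p.Prime)
    (hq : q.Prime) (hp2 : p ≠ 2) (hq2 : q ≠ 2) (hpq : p ≠ q) (hpN : p ∣ Nat.card G)
    (hqN : q ∣ Nat.card G)
    (hpf : ∀ r : ℕ, r.Prime → r ∣ Nat.card G → r = p ∨ r = q)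
    (hsp : ordCnt G p = m) (hsq : ordCnt G q = n) :
    ∀ g : G, orderOf g = 1 ∨ orderOf g = p ∨ orderOf g = q := by
  sorry

end Cfsg.Agent.Helper5.S44
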