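import Mathlib
import Cfsg.Agent.Lib.SOT.SOTDefs
import Cfsg.Agent.Lib.SOT.SOTDiv

/-!
# S4004 (design helper27): arithmetic over `FD` (piece SOT4-ARITH)

`FD.mod_of_pq_eq`: Frobenius at `p*q` (`h.frob`, `sum_div_pq`, `h.one`) gives
`p*q ∣ 1 + s p + s q + s (p*q) = 1 + s p + s q + s p`; `h.prime_dvd`: `p ∣ 1 + s p`.  Hence
`p ∣ s p + s q`, and `s q + s p ≡ 0 ≡ 1 + s p (mod p)` gives `s q ≡ 1`.

`sum_div_psq_q`: `sum_divisors_mul_coprime` with `a = p^2`, `b = q`, then `sum_div_psq` and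
`hq.sum_divisors`.

`FD.no_psq`: by contradiction.  `h.vals (p^2)`: `s (p^2) = m` or `n`.  Frobenius at `p^2`
(`sum_div_psq`): `p^2 ∣ 1 + m + s (p^2)`; with `p ∣ 1 + m`: `p ∣ s (p^2)`.  If `s (p^2) = m`
then `p ∣ m` and `p ∣ 1 + m`, so `p ∣ 1`.  So `s (p^2) = n`.  `s (p^2*q) = 0` by `h.down`
(`p*q ∣ p^2*q`, `s (p*q) = 0`).  Frobenius at `p*q`: `q ∣ 1 + m + n + 0`; at `p^2*q`
(`sum_div_psq_q`; `p^2*q ∣ N` by coprimality): `q ∣ 1 + m + n + n + 0 + 0`.  So `q ∣ n`; with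
`q ∣ 1 + n` (`h.prime_dvd`): `q ∣ 1`.  Aux names: prefix `sot4arith_`.
-/

set_option autoImplicit false

namespace Cfsg.Agent.Helper27.SOT4

open Cfsg.Agent.Lead.SOT

theorem mod_of_pq_eq {N : ℕ} {s : ℕ → ℕ} {m n : ℕ} (h : FD N s m n) {p q : ℕ}
    (hp : p.Prime) (hq : q.Prime) (hpq : p ≠ q) (hpN : p ∣ N) (hqN : q ∣ N)
    (hs : s (p * q) = s p) : s q % p = 1 := by
  have hcop : p.Coprime q := (Nat.coprime_primes hp hq).2 hpq
  have hpqN : p * q ∣ N := hcop.mul_dvd_of_dvd_of_dvd hpN hqN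
  have h1 := h.frob (p * q) hpqN
  rw [sum_div_pq s hp hq hpq, h.one, hs] at h1
  have h2 : p ∣ 1 + s p + s q + s p := (dvd_mul_right p q).trans h1
  have h3 : p ∣ 1 + s p := h.prime_dvd hp hpN
  have h4 : p ∣ s q + s p := by
    have e : 1 + s p + s q + s p = (1 + s p) + (s q + s p) := by ring
    rw [e] at h2
    exact (Nat.dvd_add_right h3).1 h2
  have h5 : s q + s p ≡ 1 + s p [MOD p] :=
    ((Nat.modEq_zero_iff_dvd).2 h4).trans ((Nat.modEq_zero_iff_dvd).2 h3).symm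
  have h6 : s q ≡ 1 [MOD p] := Nat.ModEq.add_right_cancel' (s p) h5
  have h7 : s q % p = 1 % p := h6
  rwa [Nat.mod_eq_of_lt hp.one_lt] at h7

theorem sum_div_psq_q (s : ℕ → ℕ) {p q : ℕ} (hp : p.Prime) (hq : q.Prime) (hpq : p ≠ q) :
    ∑ d ∈ (p ^ 2 * q).divisors, s d
      = s 1 + s p + s (p ^ 2) + s q + s (p * q) + s (p ^ 2 * q) := by
  have hc : (p ^ 2).Coprime q := Nat.Coprime.pow_left 2 ((Nat.coprime_primes hp hq).2 hpq)
  rw [sum_divisors_mul_coprime s hc,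
    sum_div_psq (fun d₁ => ∑ d₂ ∈ q.divisors, s (d₁ * d₂)) hp]
  simp only [hq.sum_divisors, one_mul, mul_one]
  ring

theorem no_psq {N : ℕ} {s : ℕ → ℕ} {m n : ℕ} (h : FD N s m n) {p q : ℕ}
    (hp : p.Prime) (hq : q.Prime) (hpq : p ≠ q) (hqN : q ∣ N) (hp2N : p ^ 2 ∣ N)
    (hsp : s p = m) (hsq : s q = n) (hpq0 : s (p * q) = 0) : s (p ^ 2) = 0 := by
  by_contra hne
  have hpN : p ∣ N := (dvd_pow_self p (by norm_num : (2 : ℕ) ≠ 0)).trans hp2N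
  have hp2 : 2 ≤ p := hp.two_le
  have h3 : 3 ≤ p ^ 2 := by nlinarith
  have hpm : p ∣ 1 + m := hsp ▸ h.prime_dvd hp hpN
  have hqn : q ∣ 1 + n := hsq ▸ h.prime_dvd hq hqN
  -- Frobenius at `p ^ 2`
  have f1 := h.frob (p ^ 2) hp2N
  rw [sum_div_psq s hp, h.one, hsp] at f1
  have f2 : p ∣ 1 + m + s (p ^ 2) := (dvd_pow_self p (by norm_num : (2 : ℕ) ≠ 0)).trans f1
  have f3 : p ∣ s (p ^ 2) := (Nat.dvd_add_right hpm).1 f2
  rcases h.vals (p ^ 2) h3 with h0 | hm | hn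
  · exact hne h0
  · rw [hm] at f3
    have : p ∣ 1 := (Nat.dvd_add_left f3).1 hpm
    exact hp.one_lt.ne' (Nat.dvd_one.1 this)
  · -- `s (p ^ 2) = n`
    have hcop : p.Coprime q := (Nat.coprime_primes hp hq).2 hpq
    have hc2 : (p ^ 2).Coprime q := Nat.Coprime.pow_left 2 hcop
    have hp2q0 : s (p ^ 2 * q) = 0 := by
      by_contra h9
      exact h.down (p * q) (p ^ 2 * q) ⟨p, by ring⟩ h9 hpq0
    have g1 := h.frob (p * q) (hcop.mul_dvd_of_dvd_of_dvd hpN hqN)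
    rw [sum_div_pq s hp hq hpq, h.one, hsp, hsq, hpq0] at g1
    have g2 : q ∣ 1 + m + n + 0 := (dvd_mul_left q p).trans g1
    have g3 := h.frob (p ^ 2 * q) (hc2.mul_dvd_of_dvd_of_dvd hp2N hqN)
    rw [sum_div_psq_q s hp hq hpq, h.one, hsp, hsq, hpq0, hn, hp2q0] at g3
    have g4 : q ∣ 1 + m + n + n + 0 + 0 := (dvd_mul_left q (p ^ 2)).trans g3
    have g5 : q ∣ n := by
      have e : 1 + m + n + n + 0 + 0 = (1 + m + n + 0) + n := by ring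
      rw [e] at g4
      exact (Nat.dvd_add_right g2).1 g4
    have : q ∣ 1 := (Nat.dvd_add_left g5).1 hqn
    exact hq.one_lt.ne' (Nat.dvd_one.1 this)

end Cfsg.Agent.Helper27.SOT4
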