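import Mathlib

/-!
# S4004 (design helper27): powers of `v * c` for `v` in a normal abelian subgroup
(piece SOT4-CONJPOW)

`mul_pow_conj`: `(v * c)^n = (∏ i ∈ range n, conj (c^i) v) * c^n` in `G`, the product taken in
the commutative group `↥V` (instance built from `hVab` in the statement; keep it as stated).
Induction on `n`: `Finset.prod_range_succ`, `pow_succ`,
`(v*c)^(n+1) = (v*c)^n * (v * c) = P_n * c^n * v * c = P_n * (c^n * v * (c^n)⁻¹) * c^(n+1)`,
`MulAut.conjNormal_apply`, `Subgroup.coe_mul`.  Aux names: prefix `sot4conjpow_`.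
-/

set_option autoImplicit false

namespace Cfsg.Agent.Helper27.SOT4

variable {G : Type*} [Group G]

/-- The commutative group structure on an abelian subgroup. -/
@[reducible] def commGroupOfAbelian (V : Subgroup G) (hVab : ∀ a ∈ V, ∀ b ∈ V, a * b = b * a) :
    CommGroup ↥V :=
  { (inferInstance : Group ↥V) with
    mul_comm := fun a b => Subtype.ext (hVab a.1 a.2 b.1 b.2) }

theorem mul_pow_conj (V : Subgroup G) [V.Normal] (hVab : ∀ a ∈ V, ∀ b ∈ V, a * b = b * a)
    (v : ↥V) (c : G) (n : ℕ) :
    ((v : G) * c) ^ n =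
      ((letI := commGroupOfAbelian V hVab
        ∏ i ∈ Finset.range n, (MulAut.conjNormal (c ^ i) : MulAut ↥V) v : ↥V) : G) * c ^ n := by
  let _ := commGroupOfAbelian V hVab
  induction n with
  | zero => simp
  | succ n ih =>
    rw [pow_succ, ih, Finset.prod_range_succ]
    rw [Subgroup.coe_mul, MulAut.conjNormal_apply, pow_succ]
    simp only [mul_assoc, inv_mul_cancel_left]

end Cfsg.Agent.Helper27.SOT4
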