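import Mathlib

/-!
# S4004 (design helper27): no element of order `q * r` means fixed-point-free action
-/

set_option autoImplicit false

namespace Cfsg.Agent.Helper27.SOT4

variable {G : Type*} [Group G]

/-- If all element orders are `1`, `r` or `q`, an element of order `q` commutes with no
nontrivial element of exponent `r`. -/
theorem fpf_of_orders {r q : ℕ} (hr : r.Prime) (hq : q.Prime) (hrq : r ≠ q)
    (hord : ∀ g : G, orderOf g = 1 ∨ orderOf g = r ∨ orderOf g = q)
    {g v : G} (hg : orderOf g = q) (hv : v ^ r = 1) (hc : g * v = v * g) : v = 1 := by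
  by_contra hv1
  have hov : orderOf v = r := by
    have hd : orderOf v ∣ r := orderOf_dvd_of_pow_eq_one hv
    rcases (Nat.dvd_prime hr).1 hd with h1 | h1
    · exact absurd (orderOf_eq_one_iff.1 h1) hv1
    · exact h1
  have hcop : Nat.Coprime (orderOf g) (orderOf v) := by
    rw [hg, hov]
    exact (Nat.coprime_primes hq hr).2 (Ne.symm hrq)
  have hmul : orderOf (g * v) = q * r := by
    have := Commute.orderOf_mul_eq_mul_orderOf_of_coprime (show Commute g v from hc) hcop
    rw [this, hg, hov]
  have hq2 := hq.two_le
  have hr2 := hr.two_le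
  rcases hord (g * v) with h1 | h1 | h1
  · rw [hmul] at h1
    nlinarith
  · rw [hmul] at h1
    nlinarith
  · rw [hmul] at h1
    nlinarith

end Cfsg.Agent.Helper27.SOT4
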