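import Mathlib

/-!
# S4004 (design helper27): the norm sum over a Frobenius group of order `r*q`
(piece SOT4-FROBSUM)

Abstract statement: `E` acts on the commutative group `V` by automorphisms (`φ`); `Y` is a
finite subgroup of `E` normalized by `x`; every element `x * b` (`b ∈ Y`) has `(x*b)^r = 1`
and trivial norm on `V` (`hnorm`); the only element of `V` fixed by all of `Y` is `1`
(`hfix`).  Then `v ^ Nat.card Y = 1`.

PROOF.  (a) `(x * b)^i ∈ x^i • Y` for `b ∈ Y`: induction on `i`.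
So `f i : Y → Y`, `b ↦ x^(-i) * (x*b)^i` is well defined.
(b) For `0 < i < r` (`r` prime) `f i` is injective, hence bijective.
(c) `T v = ∏ b : Y, φ b v` is fixed by every `c ∈ Y`, so `T v = 1` by `hfix`.
(d) `1 = ∏ b : Y, ∏ i ∈ range r, φ ((x*b)^i) v = ∏ i ∈ range r, ∏ b : Y, …`.
The factor `i = 0` is `v ^ Nat.card Y`.  For `0 < i < r`:
`∏ b, φ ((x*b)^i) v = φ (x^i) (T v) = 1`.  Hence `v ^ Nat.card Y = 1`.
Aux names: prefix `sot4frob_`.
-/

set_option autoImplicit false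

namespace Cfsg.Agent.Helper27.SOT4

theorem sot4frob_conj_pow {E : Type*} [Group E] (x : E) (Y : Subgroup E)
    (hx : ∀ b ∈ Y, x * b * x⁻¹ ∈ Y) : ∀ k : ℕ, ∀ b ∈ Y, x ^ k * b * (x ^ k)⁻¹ ∈ Y := by
  intro k
  induction k with
  | zero => intro b hb; simpa using hb
  | succ k ih =>
    intro b hb
    have h := hx _ (ih b hb)
    have e : x ^ (k + 1) * b * (x ^ (k + 1))⁻¹ = x * (x ^ k * b * (x ^ k)⁻¹) * x⁻¹ := by
      simp only [pow_succ', mul_inv_rev, mul_assoc]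
    rw [e]
    exact h

theorem sot4frob_inv_conj {E : Type*} [Group E] (r : ℕ) (hr : 0 < r) (x : E) (Y : Subgroup E)
    (hx : ∀ b ∈ Y, x * b * x⁻¹ ∈ Y) (hxr : x ^ r = 1) : ∀ b ∈ Y, x⁻¹ * b * x ∈ Y := by
  intro b hb
  have h := sot4frob_conj_pow x Y hx (r - 1) b hb
  have e : x ^ (r - 1) = x⁻¹ := by
    apply eq_inv_of_mul_eq_one_left
    rw [← pow_succ, Nat.sub_add_cancel hr, hxr]
  rwa [e, inv_inv] at h

theorem sot4frob_mem {E : Type*} [Group E] (x : E) (Y : Subgroup E)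
    (hxi : ∀ b ∈ Y, x⁻¹ * b * x ∈ Y) : ∀ i : ℕ, ∀ b ∈ Y, (x ^ i)⁻¹ * (x * b) ^ i ∈ Y := by
  intro i
  induction i with
  | zero => intro b hb; simp
  | succ i ih =>
    intro b hb
    have h1 := hxi _ (ih b hb)
    have e : (x ^ (i + 1))⁻¹ * (x * b) ^ (i + 1)
        = (x⁻¹ * ((x ^ i)⁻¹ * (x * b) ^ i) * x) * b := by
      rw [pow_succ x i, pow_succ (x * b) i, mul_inv_rev]
      simp only [mul_assoc]
    rw [e]
    exact Y.mul_mem h1 hb

theorem sot4frob_pow_inj {E : Type*} [Group E] (r : ℕ) (hr : r.Prime) (i : ℕ) (hi0 : 0 < i)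
    (hir : i < r) (g g' : E) (hg : g ^ r = 1) (hg' : g' ^ r = 1) (h : g ^ i = g' ^ i) :
    g = g' := by
  have hc : Nat.Coprime i r :=
    Nat.Coprime.symm ((Nat.Prime.coprime_iff_not_dvd hr).mpr (Nat.not_dvd_of_pos_of_lt hi0 hir))
  obtain ⟨m, -, hm⟩ := Nat.exists_mul_mod_eq_one_of_coprime hc hr.one_lt
  have key : ∀ a : E, a ^ r = 1 → (a ^ i) ^ m = a := by
    intro a ha
    have e : i * m = r * (i * m / r) + 1 := by
      have h2 := Nat.div_add_mod (i * m) r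
      rw [hm] at h2
      exact h2.symm
    rw [← pow_mul, e, pow_add, pow_mul, ha, one_pow, one_mul, pow_one]
  rw [← key g hg, ← key g' hg', h]

theorem fpf_frobenius_sum {E V : Type*} [Group E] [CommGroup V] (φ : E →* MulAut V)
    (r : ℕ) (hr : r.Prime) (x : E) (Y : Subgroup E) [Finite Y]
    (hx : ∀ b ∈ Y, x * b * x⁻¹ ∈ Y)
    (hpow : ∀ b ∈ Y, (x * b) ^ r = 1)
    (hnorm : ∀ b ∈ Y, ∀ v : V, ∏ i ∈ Finset.range r, φ ((x * b) ^ i) v = 1)
    (hfix : ∀ v : V, (∀ b ∈ Y, φ b v = v) → v = 1) (v : V) :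
    v ^ Nat.card Y = 1 := by
  classical
  letI : Fintype Y := Fintype.ofFinite Y
  have hr0 : 0 < r := hr.pos
  have hxr : x ^ r = 1 := by simpa using hpow 1 Y.one_mem
  have hxi := sot4frob_inv_conj r hr0 x Y hx hxr
  have hmem := sot4frob_mem x Y hxi
  have hT : ∀ w : V, ∏ b : Y, φ (b : E) w = 1 := by
    intro w
    apply hfix
    intro c hc
    rw [map_prod]
    have hcb : ∀ b : Y, φ c (φ (b : E) w) = φ (((⟨c, hc⟩ : Y) * b : Y) : E) w := by
      intro b
      rw [Subgroup.coe_mul, map_mul, MulAut.mul_apply]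
    simp only [hcb]
    exact Fintype.prod_equiv (Equiv.mulLeft (⟨c, hc⟩ : Y)) _ _ (fun b => rfl)
  have h1 : ∏ b : Y, ∏ i ∈ Finset.range r, φ ((x * (b : E)) ^ i) v = 1 :=
    Finset.prod_eq_one (fun b _ => hnorm b b.2 v)
  rw [Finset.prod_comm] at h1
  obtain ⟨n, rfl⟩ : ∃ n, r = n + 1 := ⟨r - 1, by omega⟩
  rw [Finset.prod_range_succ'] at h1
  have h0 : ∏ b : Y, φ ((x * (b : E)) ^ 0) v = v ^ Nat.card Y := by
    simp [Nat.card_eq_fintype_card]
  have h2 : ∏ i ∈ Finset.range n, ∏ b : Y, φ ((x * (b : E)) ^ (i + 1)) v = 1 := by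
    apply Finset.prod_eq_one
    intro i hi
    have hin := Finset.mem_range.mp hi
    let f : Y → Y := fun b => ⟨(x ^ (i + 1))⁻¹ * (x * (b : E)) ^ (i + 1), hmem (i + 1) b b.2⟩
    have hf : Function.Injective f := by
      intro b b' hbb
      have h3 : (x ^ (i + 1))⁻¹ * (x * (b : E)) ^ (i + 1)
          = (x ^ (i + 1))⁻¹ * (x * (b' : E)) ^ (i + 1) := congrArg Subtype.val hbb
      have h4 := mul_left_cancel h3
      have h5 := sot4frob_pow_inj (n + 1) hr (i + 1) (by omega) (by omega) _ _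
        (hpow b b.2) (hpow b' b'.2) h4
      exact Subtype.ext (mul_left_cancel h5)
    have hfb : Function.Bijective f := Finite.injective_iff_bijective.mp hf
    have e : ∀ b : Y, φ ((x * (b : E)) ^ (i + 1)) v
        = φ (x ^ (i + 1)) (φ ((f b : Y) : E) v) := by
      intro b
      rw [← MulAut.mul_apply, ← map_mul]
      have e2 : x ^ (i + 1) * ((f b : Y) : E) = (x * (b : E)) ^ (i + 1) := by
        show x ^ (i + 1) * ((x ^ (i + 1))⁻¹ * (x * (b : E)) ^ (i + 1)) = _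
        rw [mul_inv_cancel_left]
      rw [e2]
    simp only [e]
    rw [← map_prod, hfb.prod_comp (fun b : Y => φ (b : E) v), hT v, map_one]
  rw [h0, h2, one_mul] at h1
  exact h1

end Cfsg.Agent.Helper27.SOT4
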