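import Mathlib
import Cfsg.Agent.Lib.SOT4.SOT4Fpf
import Cfsg.Agent.Lib.SOT4.SOT4Frob
import Cfsg.Agent.Lib.SOT4.SOT4ConjPow

/-!
# S4004 (design helper27): the Sylow `q`-subgroup of order `q` is self-normalizing
(piece SOT4-MALN; proved by helper2)

`normalizer_sylow_le`.  Let `x` normalize `R` (hypothesis `hx`) and suppose `x ∉ R`.
(1) For every `b ∈ R` the element `c = x * b` normalizes `R`, is not in `R`, and has order `r`.
(2) `(v * c) ^ r = 1` for `v : V`, so the norm of `v` along `c` is trivial (`mul_pow_conj`).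
(3) `v` fixed by a generator `y` of `R` is `1` (`fpf_of_orders`).
(4) `fpf_frobenius_sum` gives `v ^ q = 1` for all `v : V`; with `v ^ r = 1`: `V = ⊥`, contradiction.
-/

set_option autoImplicit false
set_option linter.unusedSectionVars false
set_option linter.style.haveILetI false

namespace Cfsg.Agent.Helper27.SOT4

variable {G : Type*} [Group G] [Finite G]

/-- coprime powers -/
theorem sot4mal_eq_one_of_pow {r q : ℕ} (hr : r.Prime) (hq : q.Prime) (hrq : r ≠ q) {g : G}
    (h1 : g ^ r = 1) (h2 : g ^ q = 1) : g = 1 := by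
  have hd1 : orderOf g ∣ r := orderOf_dvd_of_pow_eq_one h1
  have hd2 : orderOf g ∣ q := orderOf_dvd_of_pow_eq_one h2
  have hc : Nat.Coprime r q := (Nat.coprime_primes hr hq).2 hrq
  have h3 : orderOf g = 1 := Nat.eq_one_of_dvd_coprimes hc hd1 hd2
  exact orderOf_eq_one_iff.1 h3

/-- an element with `g ^ r ∈ V` and `g ^ q ∈ V` lies in `V` -/
theorem sot4mal_mem_of_pow {r q : ℕ} (hr : r.Prime) (hq : q.Prime) (hrq : r ≠ q) (V : Subgroup G) {g : G}
    (h1 : g ^ r ∈ V) (h2 : g ^ q ∈ V) : g ∈ V := by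
  have hc : Nat.Coprime r q := (Nat.coprime_primes hr hq).2 hrq
  have hb : (r : ℤ) * Nat.gcdA r q + (q : ℤ) * Nat.gcdB r q = 1 := by
    have := Nat.gcd_eq_gcd_ab r q
    rw [hc] at this
    exact_mod_cast this.symm
  have h3 : g = (g ^ r) ^ (Nat.gcdA r q) * (g ^ q) ^ (Nat.gcdB r q) := by
    rw [← zpow_natCast g r, ← zpow_natCast g q, ← zpow_mul, ← zpow_mul, ← zpow_add, hb, zpow_one]
  rw [h3]
  exact V.mul_mem (V.zpow_mem h1 _) (V.zpow_mem h2 _)

theorem normalizer_sylow_le {r q : ℕ} [hr : Fact r.Prime] [hq : Fact q.Prime] (hrq : r ≠ q)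
    (hord : ∀ g : G, orderOf g = 1 ∨ orderOf g = r ∨ orderOf g = q)
    (V : Subgroup G) [V.Normal] (hV1 : V ≠ ⊥) (hVab : ∀ a ∈ V, ∀ b ∈ V, a * b = b * a)
    (hVr : ∀ a ∈ V, a ^ r = 1) (R : Sylow q G) (hR : Nat.card ↥(R : Subgroup G) = q)
    (x : G) (hx : ∀ h : G, h ∈ (R : Subgroup G) ↔ x * h * x⁻¹ ∈ (R : Subgroup G)) :
    x ∈ (R : Subgroup G) := by
  classical
  by_contra hxR
  have hrp := hr.out
  have hqp := hq.out
  -- elements of `R` have `q`-th power `1`
  have hRq : ∀ b ∈ (R : Subgroup G), b ^ q = 1 := by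
    intro b hb
    have h1 : (⟨b, hb⟩ : ↥(R : Subgroup G)) ^ Nat.card ↥(R : Subgroup G) = 1 := pow_card_eq_one'
    rw [hR] at h1
    have h2 := congrArg Subtype.val h1
    simpa using h2
  -- a generator of `R`
  obtain ⟨y, hyR, hy⟩ : ∃ y ∈ (R : Subgroup G), orderOf y = q := by
    have hne : (R : Subgroup G) ≠ ⊥ := by
      intro h
      rw [h, Subgroup.card_bot] at hR
      exact hqp.one_lt.ne' hR.symm
    obtain ⟨y, hyR, hy1⟩ := (Subgroup.ne_bot_iff_exists_ne_one).1 hne |>.imp (fun y h => h) |> fun ⟨y, h⟩ =>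
      (⟨y.1, y.2, fun h0 => h (Subtype.ext h0)⟩ : ∃ y ∈ (R : Subgroup G), y ≠ 1)
    refine ⟨y, hyR, ?_⟩
    have hd : orderOf y ∣ q := orderOf_dvd_of_pow_eq_one (hRq y hyR)
    rcases (Nat.dvd_prime hqp).1 hd with h1 | h1
    · exact absurd (orderOf_eq_one_iff.1 h1) hy1
    · exact h1
  -- `R ⊓ V = ⊥`
  have hRV : ∀ g, g ∈ (R : Subgroup G) → g ∈ V → g = 1 := fun g h1 h2 =>
    sot4mal_eq_one_of_pow hrp hqp hrq (hVr g h2) (hRq g h1)
  -- (1)
  have hc1 : ∀ b ∈ (R : Subgroup G), x * b ∉ (R : Subgroup G) := by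
    intro b hb hc
    apply hxR
    have : x = x * b * b⁻¹ := by group
    rw [this]
    exact (R : Subgroup G).mul_mem hc ((R : Subgroup G).inv_mem hb)
  have hcn : ∀ b ∈ (R : Subgroup G), ∀ h : G,
      h ∈ (R : Subgroup G) ↔ (x * b) * h * (x * b)⁻¹ ∈ (R : Subgroup G) := by
    intro b hb h
    have e : (x * b) * h * (x * b)⁻¹ = x * (b * h * b⁻¹) * x⁻¹ := by group
    rw [e, ← hx]
    constructor
    · intro hh
      exact (R : Subgroup G).mul_mem ((R : Subgroup G).mul_mem hb hh) ((R : Subgroup G).inv_mem hb)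
    · intro hh
      have e2 : h = b⁻¹ * (b * h * b⁻¹) * b := by group
      rw [e2]
      exact (R : Subgroup G).mul_mem ((R : Subgroup G).mul_mem ((R : Subgroup G).inv_mem hb) hh) hb
  have hcr : ∀ b ∈ (R : Subgroup G), orderOf (x * b) = r := by
    intro b hb
    rcases hord (x * b) with h1 | h1 | h1
    · exfalso
      apply hc1 b hb
      rw [orderOf_eq_one_iff.1 h1]
      exact (R : Subgroup G).one_mem
    · exact h1
    · exfalso
      apply hc1 b hb
      have hP : IsPGroup q (Subgroup.zpowers (x * b)) := by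
        apply IsPGroup.of_card (n := 1)
        rw [Nat.card_zpowers, h1, pow_one]
      have h2 := hP.inf_normalizer_sylow R
      have h3 : x * b ∈ Subgroup.zpowers (x * b) ⊓ Subgroup.normalizer (R : Set G) := by
        refine Subgroup.mem_inf.2 ⟨Subgroup.mem_zpowers _, ?_⟩
        rw [Subgroup.mem_set_normalizer_iff]
        exact hcn b hb
      rw [h2] at h3
      exact (Subgroup.mem_inf.1 h3).2
  have hpow : ∀ b ∈ (R : Subgroup G), (x * b) ^ r = 1 := by
    intro b hb
    rw [← hcr b hb]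
    exact pow_orderOf_eq_one _
  -- the commutative structure
  letI := commGroupOfAbelian V hVab
  -- (2)
  have hvc : ∀ b ∈ (R : Subgroup G), ∀ v : ↥V, ((v : G) * (x * b)) ^ r = 1 := by
    intro b hb v
    rcases hord ((v : G) * (x * b)) with h1 | h1 | h1
    · rw [orderOf_eq_one_iff.1 h1, one_pow]
    · rw [← h1]
      exact pow_orderOf_eq_one _
    · exfalso
      have h2 : ((v : G) * (x * b)) ^ q = 1 := by
        rw [← h1]
        exact pow_orderOf_eq_one _
      rw [mul_pow_conj V hVab v (x * b) q] at h2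
      have h3 : (x * b) ^ q ∈ V := by
        have h4 := eq_inv_of_mul_eq_one_right h2
        rw [h4]
        exact V.inv_mem (Subtype.coe_prop _)
      have h5 : (x * b) ^ r ∈ V := by
        rw [hpow b hb]
        exact V.one_mem
      have hcV : x * b ∈ V := sot4mal_mem_of_pow hrp hqp hrq V h5 h3
      -- `y` commutes with `c`
      have h6 : y * (x * b) * y⁻¹ * (x * b)⁻¹ = 1 := by
        apply hRV
        · have e : y * (x * b) * y⁻¹ * (x * b)⁻¹ = y * ((x * b) * y⁻¹ * (x * b)⁻¹) := by group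
          rw [e]
          exact (R : Subgroup G).mul_mem hyR ((hcn b hb _).1 ((R : Subgroup G).inv_mem hyR))
        · exact V.mul_mem (Subgroup.Normal.conj_mem inferInstance _ hcV y) (V.inv_mem hcV)
      have h7 : y * (x * b) = (x * b) * y := by
        have := mul_eq_one_iff_eq_inv.1 h6
        rw [inv_inv] at this
        have h8 : y * (x * b) = y * (x * b) * y⁻¹ * y := by group
        rw [h8, this]
      have h9 := fpf_of_orders hrp hqp hrq hord hy (hpow b hb) h7
      apply hc1 b hb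
      rw [h9]
      exact (R : Subgroup G).one_mem
  have hnorm : ∀ b ∈ (R : Subgroup G), ∀ v : ↥V,
      ∏ i ∈ Finset.range r, (MulAut.conjNormal ((x * b) ^ i) : MulAut ↥V) v = 1 := by
    intro b hb v
    have h1 := hvc b hb v
    rw [mul_pow_conj V hVab v (x * b) r, hpow b hb, mul_one] at h1
    exact Subtype.ext h1
  -- (3)
  have hfix : ∀ v : ↥V, (∀ b ∈ (R : Subgroup G), (MulAut.conjNormal b : MulAut ↥V) v = v) → v = 1 := by
    intro v hv
    have h1 := hv y hyR
    have h2 : y * (v : G) * y⁻¹ = (v : G) := by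
      have := congrArg Subtype.val h1
      rwa [MulAut.conjNormal_apply] at this
    have h3 : y * (v : G) = (v : G) * y := by
      have h4 : y * (v : G) = y * (v : G) * y⁻¹ * y := by group
      rw [h4, h2]
    have h5 := fpf_of_orders hrp hqp hrq hord hy (hVr v v.2) h3
    exact Subtype.ext h5
  -- (4)
  have hall : ∀ v : ↥V, v = 1 := by
    intro v
    have h1 := fpf_frobenius_sum (E := G) (V := ↥V) MulAut.conjNormal r hrp x (R : Subgroup G)
      (fun b hb => (hx b).1 hb) hpow hnorm hfix v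
    rw [hR] at h1
    have h2 : (v : G) ^ q = 1 := by
      have := congrArg Subtype.val h1
      simpa using this
    exact Subtype.ext (sot4mal_eq_one_of_pow hrp hqp hrq (hVr v v.2) h2)
  apply hV1
  rw [Subgroup.eq_bot_iff_forall]
  intro g hg
  have := hall ⟨g, hg⟩
  exact congrArg Subtype.val this

end Cfsg.Agent.Helper27.SOT4
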