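import Mathlib

/-!
# S4004 (design helper27): a nontrivial normal abelian subgroup of prime exponent
(piece SOT4-NORMAL)

`exists_normal_abelian`: `G` solvable and nontrivial.  Let `k` be least with
`derivedSeries G (k+1) = ⊥` (`Nat.find` on `IsSolvable.solvable`; `k` exists since
`derivedSeries G 0 = ⊤ ≠ ⊥`), `A = derivedSeries G k ≠ ⊥`: `A` is normal
(`derivedSeries_normal`) and abelian (`⁅A, A⁆ = ⊥`, `Subgroup.commutator_eq_bot_iff_le_centralizer`).
Take a prime `r ∣ Nat.card A` (`Nat.exists_prime_and_dvd`, `Nat.card A ≠ 1`), and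
`V = {a ∈ A | a ^ r = 1}` (a subgroup since `A` is abelian: `mul_pow` for commuting elements;
normal in `G` since `A` is normal and `(g a g⁻¹)^r = g a^r g⁻¹`).  `V ≠ ⊥` by Cauchy in `A`
(`exists_prime_orderOf_dvd_card'`).  Aux names: prefix `sot4norm_`.
-/

set_option autoImplicit false

namespace Cfsg.Agent.Helper27.SOT4

open scoped commutatorElement

variable {G : Type*} [Group G] [Finite G]

theorem exists_normal_abelian (hsol : Group.IsSolvable G) (hnt : Nontrivial G) :
    ∃ (r : ℕ) (V : Subgroup G), r.Prime ∧ V.Normal ∧ V ≠ ⊥ ∧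
      (∀ a ∈ V, ∀ b ∈ V, a * b = b * a) ∧ (∀ a ∈ V, a ^ r = 1) := by
  classical
  obtain ⟨n, hn⟩ := hsol.solvable
  have hex : ∃ k, derivedSeries G k = ⊥ := ⟨n, hn⟩
  have hk : derivedSeries G (Nat.find hex) = ⊥ := Nat.find_spec hex
  have hk0 : Nat.find hex ≠ 0 := by
    intro h0
    rw [h0, derivedSeries_zero] at hk
    exact top_ne_bot hk
  obtain ⟨j, hj⟩ := Nat.exists_eq_succ_of_ne_zero hk0
  have hA1 : derivedSeries G j ≠ ⊥ := Nat.find_min hex (by omega : j < Nat.find hex)
  have hAn : (derivedSeries G j).Normal := derivedSeries_normal G j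
  have hcomm : ⁅derivedSeries G j, derivedSeries G j⁆ = ⊥ := by
    rw [← hk, hj]
    rfl
  have hAab : ∀ a ∈ derivedSeries G j, ∀ b ∈ derivedSeries G j, a * b = b * a := by
    intro a ha b hb
    have hmem : ⁅a, b⁆ ∈ ⁅derivedSeries G j, derivedSeries G j⁆ :=
      Subgroup.commutator_mem_commutator ha hb
    rw [hcomm, Subgroup.mem_bot] at hmem
    exact (commutatorElement_eq_one_iff_mul_comm).1 hmem
  have hcardA : Nat.card ↥(derivedSeries G j) ≠ 1 := by
    intro h
    exact hA1 (Subgroup.card_eq_one.1 h)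
  obtain ⟨r, hr, hrA⟩ := Nat.exists_prime_and_dvd hcardA
  let V : Subgroup G :=
    { carrier := {a | a ∈ derivedSeries G j ∧ a ^ r = 1}
      one_mem' := ⟨(derivedSeries G j).one_mem, one_pow r⟩
      mul_mem' := fun {a b} ha hb =>
        ⟨(derivedSeries G j).mul_mem ha.1 hb.1, by
          rw [(show Commute a b from hAab a ha.1 b hb.1).mul_pow, ha.2, hb.2, one_mul]⟩
      inv_mem' := fun {a} ha =>
        ⟨(derivedSeries G j).inv_mem ha.1, by rw [inv_pow, ha.2, inv_one]⟩ }
  refine ⟨r, V, hr, ?_, ?_, ?_, ?_⟩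
  · constructor
    intro a ha g
    exact ⟨hAn.conj_mem a ha.1 g, by rw [conj_pow, ha.2, mul_one, mul_inv_cancel]⟩
  · have : Fact r.Prime := ⟨hr⟩
    obtain ⟨a, ha⟩ := exists_prime_orderOf_dvd_card' (G := ↥(derivedSeries G j)) r hrA
    intro hbot
    have hpow : (a : G) ^ r = 1 := by
      have h1 : a ^ r = 1 := by
        rw [← ha]
        exact pow_orderOf_eq_one a
      have := congrArg Subtype.val h1
      simpa using this
    have hmem : (a : G) ∈ V := ⟨a.2, hpow⟩
    rw [hbot, Subgroup.mem_bot] at hmem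
    have ha1 : a = 1 := Subtype.ext hmem
    rw [ha1, orderOf_one] at ha
    exact hr.one_lt.ne ha
  · intro a ha b hb
    exact hAab a ha.1 b hb.1
  · intro a ha
    exact ha.2

end Cfsg.Agent.Helper27.SOT4
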