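import Mathlib

/-!
# S4004 (design helper27): no fixed-point-free `C_q × C_q` (piece SOT4-RANK2)

Abstract statement: `E` acts on the commutative group `V` by automorphisms (`φ`), `y z : E`
commute, `y^q = z^q = 1`, and every `g ≠ 1` of `E` is fixed-point-free.  Then `v ^ q = 1`.

PROOF.  For `g : E` with `g ^ q = 1` put `T g v = ∏ i ∈ range q, φ (g ^ i) v`.  Then
`φ g (T g v) = T g v`.  So `T g v = 1` whenever `g ≠ 1` (hfpf).
Now `P = ∏ j ∈ range q, T (y * z^j) v = 1`.  Swap the products: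
`P = ∏ i ∈ range q, ∏ j ∈ range q, φ ((y * z^j)^i) v`, and `(y * z^j)^i = y^i * (z^i)^j`.
For `i = 0` the inner product is `v ^ q`.  For `0 < i < q` it is
`φ (y^i) (T (z^i) v) = 1`.  Hence `v ^ q = 1`.
Aux names: prefix `sot4rank_`.
-/

set_option autoImplicit false

namespace Cfsg.Agent.Helper27.SOT4

theorem sot4rank_T_fixed {E V : Type*} [Group E] [CommGroup V] (φ : E →* MulAut V) (q : ℕ)
    (g : E) (hg : g ^ q = 1) (v : V) :
    φ g (∏ i ∈ Finset.range q, φ (g ^ i) v) = ∏ i ∈ Finset.range q, φ (g ^ i) v := by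
  rw [map_prod]
  have h1 : ∀ i, φ g (φ (g ^ i) v) = φ (g ^ (i + 1)) v := by
    intro i
    rw [pow_succ', map_mul, MulAut.mul_apply]
  simp only [h1]
  cases q with
  | zero => simp
  | succ n =>
    rw [Finset.prod_range_succ, Finset.prod_range_succ' (fun i => φ (g ^ i) v)]
    rw [hg, pow_zero]

theorem fpf_rank_two {E V : Type*} [Group E] [CommGroup V] (φ : E →* MulAut V) (q : ℕ)
    (y z : E) (hyz : Commute y z) (hy : y ^ q = 1) (hz : z ^ q = 1)
    (hfpf : ∀ g : E, g ≠ 1 → ∀ v : V, φ g v = v → v = 1)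
    (hne1 : ∀ j, j < q → y * z ^ j ≠ 1) (hne2 : ∀ i, 0 < i → i < q → z ^ i ≠ 1) (v : V) :
    v ^ q = 1 := by
  classical
  have hT : ∀ g : E, g ^ q = 1 → g ≠ 1 → ∏ i ∈ Finset.range q, φ (g ^ i) v = 1 :=
    fun g hg hne => hfpf g hne _ (sot4rank_T_fixed φ q g hg v)
  have hP : ∏ j ∈ Finset.range q, ∏ i ∈ Finset.range q, φ ((y * z ^ j) ^ i) v = 1 := by
    apply Finset.prod_eq_one
    intro j hj
    have hjq := Finset.mem_range.mp hj
    apply hT _ _ (hne1 j hjq)
    rw [(hyz.pow_right j).mul_pow, hy, ← pow_mul, mul_comm, pow_mul, hz, one_pow, one_mul]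
  rw [Finset.prod_comm] at hP
  cases q with
  | zero => simp
  | succ n =>
    rw [Finset.prod_range_succ'] at hP
    have h0 : ∏ j ∈ Finset.range (n + 1), φ ((y * z ^ j) ^ 0) v = v ^ (n + 1) := by
      simp
    have h1 : ∏ i ∈ Finset.range n, ∏ j ∈ Finset.range (n + 1),
        φ ((y * z ^ j) ^ (i + 1)) v = 1 := by
      apply Finset.prod_eq_one
      intro i hi
      have hin := Finset.mem_range.mp hi
      have e : ∀ j, φ ((y * z ^ j) ^ (i + 1)) v
          = φ (y ^ (i + 1)) (φ ((z ^ (i + 1)) ^ j) v) := by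
        intro j
        rw [(hyz.pow_right j).mul_pow, map_mul, MulAut.mul_apply, ← pow_mul, mul_comm j,
          pow_mul]
      simp only [e]
      have hz1 : (z ^ (i + 1)) ^ (n + 1) = 1 := by
        rw [← pow_mul, mul_comm, pow_mul, hz, one_pow]
      rw [← map_prod, hT (z ^ (i + 1)) hz1 (hne2 (i + 1) (by omega) (by omega)), map_one]
    rw [h0, h1, one_mul] at hP
    exact hP

end Cfsg.Agent.Helper27.SOT4
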