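import Mathlib
import Cfsg.Agent.Lib.SOT4.SOT4Fpf
import Cfsg.Agent.Lib.SOT4.SOT4Rank
import Cfsg.Agent.Lib.SOT4.SOT4ConjPow

/-!
# S4004 (design helper27): the Sylow `q`-subgroup has order `q` (piece SOT4-SYLQ)

`card_sylow_eq`.  `R` is a nontrivial `q`-group (`q ∣ Nat.card G`, `Sylow.dvd_card_of_dvd_card`);
every `g ∈ R` has order `1` or `q` (its order is a power of `q` by `R.2`, and is `1`, `r` or `q`
by `hord`; a prime `r ≠ q` is not a power of `q`).  The centre of `R` is nontrivial
(`IsPGroup.center_nontrivial` / `IsPGroup.bot_lt_center`): take `z ∈ center R`, `z ≠ 1`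
(order `q`).  Suppose `Nat.card R ≠ q`.  Then `Subgroup.zpowers z ≠ ⊤` in `↥R`
(`Nat.card_zpowers`), so there is `y : ↥R`, `y ∉ zpowers z`; `y ^ q = 1`, `z ^ q = 1`,
`Commute y z`.  Apply `fpf_rank_two` with `E := ↥R`, `V := ↥V` (instance
`commGroupOfAbelian V hVab`), `φ := (MulAut.conjNormal).comp R.subtype`:
* `hfpf`: `g ≠ 1` in `R` has order `q`; `φ g v = v` means `g * v * g⁻¹ = v`
  (`MulAut.conjNormal_apply`), i.e. `g * v = v * g`; `fpf_of_orders` gives `v = 1`.
* `hne1`: `y * z^j = 1` would give `y = (z^j)⁻¹ ∈ zpowers z`.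
* `hne2`: `orderOf z = q` (`pow_eq_one_iff_modEq`/`orderOf_dvd_of_pow_eq_one` and `Nat.le_of_dvd`).
Conclusion `v ^ q = 1` for all `v : V`; with `v ^ r = 1` and `q`, `r` coprime
(`pow_gcd_eq_one` or Bezout) `v = 1`, so `V = ⊥`: contradiction.  Aux names: prefix `sot4syl_`.
-/

set_option autoImplicit false

namespace Cfsg.Agent.Helper27.SOT4

variable {G : Type*} [Group G] [Finite G]

theorem card_sylow_eq {r q : ℕ} [hr : Fact r.Prime] [hq : Fact q.Prime] (hrq : r ≠ q)
    (hord : ∀ g : G, orderOf g = 1 ∨ orderOf g = r ∨ orderOf g = q)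
    (V : Subgroup G) [V.Normal] (hV1 : V ≠ ⊥) (hVab : ∀ a ∈ V, ∀ b ∈ V, a * b = b * a)
    (hVr : ∀ a ∈ V, a ^ r = 1) (hqN : q ∣ Nat.card G) (R : Sylow q G) :
    Nat.card ↥(R : Subgroup G) = q := by
  classical
  have hqp : q.Prime := hq.out
  have hrp : r.Prime := hr.out
  by_contra hne
  have hRp : IsPGroup q ↥(R : Subgroup G) := R.2
  have hdvd : q ∣ Nat.card ↥(R : Subgroup G) := R.dvd_card_of_dvd_card hqN
  have hordR : ∀ g : ↥(R : Subgroup G), orderOf g = 1 ∨ orderOf g = q := by
    intro g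
    have h1 : orderOf (g : G) = orderOf g := Subgroup.orderOf_coe g
    rcases hord (g : G) with h | h | h
    · left
      rw [← h1]
      exact h
    · exfalso
      obtain ⟨k, hk⟩ := hRp g
      have h2 : orderOf g ∣ q ^ k := orderOf_dvd_of_pow_eq_one hk
      rw [← h1, h] at h2
      have := (Nat.prime_dvd_prime_iff_eq hrp hqp).1 (hrp.dvd_of_dvd_pow h2)
      exact hrq this
    · right
      rw [← h1]
      exact h
  have hpowq : ∀ g : ↥(R : Subgroup G), g ^ q = 1 := by
    intro g
    rcases hordR g with h | h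
    · rw [orderOf_eq_one_iff.1 h, one_pow]
    · have h5 := pow_orderOf_eq_one g
      rwa [h] at h5
  have : Nontrivial ↥(R : Subgroup G) := by
    rw [← Finite.one_lt_card_iff_nontrivial]
    have h1 := Nat.le_of_dvd Nat.card_pos hdvd
    have h2 := hqp.two_le
    omega
  have := hRp.center_nontrivial
  obtain ⟨⟨z, hzc⟩, hz1⟩ := exists_ne (1 : Subgroup.center ↥(R : Subgroup G))
  have hz1' : z ≠ 1 := fun h => hz1 (Subtype.ext h)
  have hoz : orderOf z = q := by
    rcases hordR z with h | h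
    · exact absurd (orderOf_eq_one_iff.1 h) hz1'
    · exact h
  have hzp : Subgroup.zpowers z ≠ ⊤ := by
    intro htop
    have h1 : Nat.card (Subgroup.zpowers z) = q := by rw [Nat.card_zpowers, hoz]
    rw [htop, Subgroup.card_top] at h1
    exact hne h1
  obtain ⟨y, hy⟩ : ∃ y : ↥(R : Subgroup G), y ∉ Subgroup.zpowers z := by
    by_contra hall
    exact hzp ((Subgroup.eq_top_iff' _).2 (fun g => by
      by_contra hg
      exact hall ⟨g, hg⟩))
  have hyz : Commute y z := Subgroup.mem_center_iff.1 hzc y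
  let _ := commGroupOfAbelian V hVab
  let φ : ↥(R : Subgroup G) →* MulAut ↥V := (MulAut.conjNormal).comp (R : Subgroup G).subtype
  have hVq : ∀ v : ↥V, v ^ q = 1 := by
    intro v
    apply fpf_rank_two φ q y z hyz (hpowq y) (hpowq z)
    · intro g hg1 w hw
      have hog : orderOf (g : G) = q := by
        rw [Subgroup.orderOf_coe]
        rcases hordR g with h | h
        · exact absurd (orderOf_eq_one_iff.1 h) hg1
        · exact h
      have h1 : ((φ g w : ↥V) : G) = (g : G) * w * (g : G)⁻¹ := rfl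
      have h2 : (g : G) * w = w * g := by
        have h3 := congrArg Subtype.val hw
        rw [h1] at h3
        calc (g : G) * w = (g : G) * w * (g : G)⁻¹ * g := by group
          _ = w * g := by rw [h3]
      have h3 := fpf_of_orders hrp hqp hrq hord hog (hVr w w.2) h2
      exact Subtype.ext h3
    · intro j _ h
      apply hy
      have h1 : y = (z ^ j)⁻¹ := eq_inv_of_mul_eq_one_left h
      rw [h1]
      exact inv_mem (pow_mem (Subgroup.mem_zpowers z) j)
    · intro i hi0 hiq h
      have h1 := orderOf_dvd_of_pow_eq_one h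
      rw [hoz] at h1
      have h2 := Nat.le_of_dvd hi0 h1
      omega
  apply hV1
  rw [Subgroup.eq_bot_iff_forall]
  intro v hv
  have h1 : (⟨v, hv⟩ : ↥V) ^ q = 1 := hVq ⟨v, hv⟩
  have h1' : v ^ q = 1 := congrArg Subtype.val h1
  have h2 : v ^ r = 1 := hVr v hv
  have hcop : Nat.Coprime q r := (Nat.coprime_primes hqp hrp).2 (Ne.symm hrq)
  have h3 : v ^ Nat.gcd q r = 1 := pow_gcd_eq_one.2 ⟨h1', h2⟩
  rwa [hcop.gcd_eq_one, pow_one] at h3

end Cfsg.Agent.Helper27.SOT4
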