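import Mathlib
import Cfsg.Prelude.Def_Solvable
import Cfsg.Agent.Lib.SOT4.SOT4Norm
import Cfsg.Agent.Lib.SOT4.SOT4Syl
import Cfsg.Agent.Lib.SOT4.SOT4Mal

/-!
# S4004 (design helper27): a Frobenius complement of prime order
-/

set_option autoImplicit false

namespace Cfsg.Agent.Helper27.SOT4

open scoped Pointwise

variable {G : Type*} [Group G] [Finite G]

theorem frob_of_normal {r q : ℕ} [hr : Fact r.Prime] [hq : Fact q.Prime] (hrq : r ≠ q)
    (hord : ∀ g : G, orderOf g = 1 ∨ orderOf g = r ∨ orderOf g = q)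
    (V : Subgroup G) [V.Normal] (hV1 : V ≠ ⊥) (hVab : ∀ a ∈ V, ∀ b ∈ V, a * b = b * a)
    (hVr : ∀ a ∈ V, a ^ r = 1) (hqN : q ∣ Nat.card G) :
    ∃ C : Subgroup G, Cfsg.IsFrobeniusComplement C ∧ (Nat.card ↥C).Prime := by
  obtain ⟨R⟩ : Nonempty (Sylow q G) := inferInstance
  have hR : Nat.card ↥(R : Subgroup G) = q := card_sylow_eq hrq hord V hV1 hVab hVr hqN R
  have hnorm := normalizer_sylow_le hrq hord V hV1 hVab hVr R hR
  have hpowR : ∀ g ∈ (R : Subgroup G), g ^ q = 1 := by
    intro g hg
    have h1 : (⟨g, hg⟩ : ↥(R : Subgroup G)) ^ Nat.card ↥(R : Subgroup G) = 1 := pow_card_eq_one'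
    rw [hR] at h1
    exact congrArg Subtype.val h1
  refine ⟨(R : Subgroup G), ⟨?_, ?_, ?_⟩, by rw [hR]; exact hq.out⟩
  · intro hbot
    rw [hbot, Subgroup.card_bot] at hR
    exact hq.out.one_lt.ne hR
  · intro htop
    obtain ⟨v, hv, hv1⟩ : ∃ v ∈ V, v ≠ 1 := by
      by_contra hcon
      push Not at hcon
      exact hV1 ((Subgroup.eq_bot_iff_forall V).2 hcon)
    have h1 : v ^ q = 1 := hpowR v (by rw [htop]; exact Subgroup.mem_top v)
    have h2 : v ^ r = 1 := hVr v hv
    have hcop : Nat.Coprime q r := (Nat.coprime_primes hq.out hr.out).2 (Ne.symm hrq)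
    have h3 : orderOf v ∣ Nat.gcd q r :=
      Nat.dvd_gcd (orderOf_dvd_of_pow_eq_one h1) (orderOf_dvd_of_pow_eq_one h2)
    rw [hcop.gcd_eq_one, Nat.dvd_one, orderOf_eq_one_iff] at h3
    exact hv1 h3
  · intro g hg
    by_contra hne
    -- the intersection is a nontrivial subgroup of `R` (of prime order), so it is `R`
    have hIle : (R : Subgroup G) ⊓ (MulAut.conj g • (R : Subgroup G)) ≤ (R : Subgroup G) :=
      inf_le_left
    have hIcard : Nat.card ↥((R : Subgroup G) ⊓ (MulAut.conj g • (R : Subgroup G))) ∣ q := by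
      have := Subgroup.card_dvd_of_le hIle
      rwa [hR] at this
    have hI1 : Nat.card ↥((R : Subgroup G) ⊓ (MulAut.conj g • (R : Subgroup G))) ≠ 1 := by
      intro h1
      exact hne ((Subgroup.card_eq_one).1 h1)
    have hIq : Nat.card ↥((R : Subgroup G) ⊓ (MulAut.conj g • (R : Subgroup G))) = q := by
      rcases (Nat.dvd_prime hq.out).1 hIcard with h1 | h1
      · exact absurd h1 hI1
      · exact h1
    have hIR : (R : Subgroup G) ⊓ (MulAut.conj g • (R : Subgroup G)) = (R : Subgroup G) :=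
      Subgroup.eq_of_le_of_card_ge hIle (by rw [hIq, hR])
    have hRle : (R : Subgroup G) ≤ MulAut.conj g • (R : Subgroup G) := by
      intro h hh
      have : h ∈ (R : Subgroup G) ⊓ (MulAut.conj g • (R : Subgroup G)) := by
        rw [hIR]
        exact hh
      exact this.2
    -- `g⁻¹ h g ∈ R` for `h ∈ R`
    have hconj : ∀ h ∈ (R : Subgroup G), g⁻¹ * h * g ∈ (R : Subgroup G) := by
      intro h hh
      have := hRle hh
      rw [Subgroup.mem_pointwise_smul_iff_inv_smul_mem] at this
      simpa [MulAut.smul_def, MulAut.conj_inv_apply] using this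
    -- the map `h ↦ g⁻¹ h g` on `R` is injective, hence surjective
    let f : ↥(R : Subgroup G) → ↥(R : Subgroup G) := fun h => ⟨g⁻¹ * h.1 * g, hconj h.1 h.2⟩
    have hfinj : Function.Injective f := by
      intro a b hab
      have h1 : g⁻¹ * a.1 * g = g⁻¹ * b.1 * g := congrArg Subtype.val hab
      have h2 : a.1 = b.1 := by
        have := congrArg (fun t => g * t * g⁻¹) h1
        simpa [mul_assoc] using this
      exact Subtype.ext h2
    have hfsurj : Function.Surjective f := Finite.injective_iff_surjective.1 hfinj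
    apply hg
    apply hnorm g
    intro h
    constructor
    · intro hh
      obtain ⟨h', hh'⟩ := hfsurj ⟨h, hh⟩
      have h1 : g⁻¹ * h'.1 * g = h := congrArg Subtype.val hh'
      have h2 : g * h * g⁻¹ = h'.1 := by
        rw [← h1]
        simp [mul_assoc]
      rw [h2]
      exact h'.2
    · intro hh
      have := hconj _ hh
      simpa [mul_assoc] using this

end Cfsg.Agent.Helper27.SOT4
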