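import Mathlib
import Cfsg.Agent.Lib.Helper20.OrderCount

/-!
# S4004 (design helper27): counting elements of order `p*q` (piece SOT4-COUNT)

`ordCnt_mul_ge`: choose for every `x` of order `p` an element `y x` of order `q` commuting with
`x` (`Classical.choose`).  The map `({x // orderOf x = p} × Fin (q - 1)) → {g // orderOf g = p*q}`,
`(x, i) ↦ x * (y x) ^ (i + 1)` is well defined (`(y x)^(i+1)` has order `q` as `0 < i+1 < q`,
`q` prime; commuting elements of coprime orders: `Commute.orderOf_mul_eq_mul_orderOf_of_coprime`)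
and injective: with `k` such that `k ≡ 1 (mod p)`, `k ≡ 0 (mod q)` (Chinese remainder, e.g.
`k = q * (q⁻¹ mod p)`; `Nat.chineseRemainder` or `Nat.exists_mul_emod_eq_one_of_coprime`),
`(x * y^j)^k = x^k * (y^j)^k = x`; so equal images have equal `x`, hence the same `y x`, and
then `y^(i+1) = y^(i'+1)` with both exponents in `[1, q-1]` gives `i = i'`
(`pow_injOn_Iio_orderOf` / `pow_inj_mod`).  Conclude with `Nat.card_le_card_of_injective`,
`Nat.card_prod`, `Nat.card_fin`, `ordCnt_def`.  Aux names: prefix `sot4count_`.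
-/

set_option autoImplicit false

namespace Cfsg.Agent.Helper27.SOT4

open Cfsg.Agent.Helper20 (ordCnt)

variable {G : Type*} [Group G] [Finite G]

theorem ordCnt_mul_ge {p q : ℕ} (hp : p.Prime) (hq : q.Prime) (hpq : p ≠ q)
    (hc : ∀ x : G, orderOf x = p → ∃ y : G, orderOf y = q ∧ Commute x y) :
    (q - 1) * ordCnt G p ≤ ordCnt G (p * q) := by
  classical
  have hcop : Nat.Coprime p q := (Nat.coprime_primes hp hq).2 hpq
  choose! y hy using hc
  obtain ⟨k, hk1, hk0⟩ : ∃ k : ℕ, k % p = 1 ∧ q ∣ k := by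
    obtain ⟨u, -, hu⟩ := Nat.exists_mul_mod_eq_one_of_coprime hcop.symm hp.one_lt
    exact ⟨q * u, hu, dvd_mul_right q u⟩
  -- the key identity
  have key : ∀ x : G, orderOf x = p → ∀ j : ℕ, (x * (y x) ^ j) ^ k = x := by
    intro x hx j
    have hcomm : Commute x ((y x) ^ j) := (hy x hx).2.pow_right j
    rw [hcomm.mul_pow]
    have h1 : ((y x) ^ j) ^ k = 1 := by
      rw [← pow_mul, mul_comm, pow_mul]
      have : (y x) ^ k = 1 := by
        rw [← (hy x hx).1] at hk0
        exact orderOf_dvd_iff_pow_eq_one.1 hk0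
      rw [this, one_pow]
    rw [h1, mul_one, ← pow_mod_orderOf, hx, hk1, pow_one]
  have hord : ∀ x : G, orderOf x = p → ∀ i : Fin (q - 1),
      orderOf (x * (y x) ^ (i.val + 1)) = p * q := by
    intro x hx i
    have hi : i.val + 1 < q := by have := i.2; omega
    have hcp : Nat.Coprime q (i.val + 1) :=
      (Nat.Prime.coprime_iff_not_dvd hq).2 (Nat.not_dvd_of_pos_of_lt (Nat.succ_pos _) hi)
    have ho : orderOf ((y x) ^ (i.val + 1)) = q := by
      have := Nat.Coprime.orderOf_pow (y := y x) (m := i.val + 1) (by rw [(hy x hx).1]; exact hcp)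
      rw [this, (hy x hx).1]
    have hcomm : Commute x ((y x) ^ (i.val + 1)) := (hy x hx).2.pow_right _
    rw [hcomm.orderOf_mul_eq_mul_orderOf_of_coprime (by rw [hx, ho]; exact hcop), hx, ho]
  let f : {x : G // orderOf x = p} × Fin (q - 1) → {g : G // orderOf g = p * q} :=
    fun a => ⟨a.1.1 * (y a.1.1) ^ (a.2.val + 1), hord a.1.1 a.1.2 a.2⟩
  have hf : Function.Injective f := by
    rintro ⟨⟨x, hx⟩, i⟩ ⟨⟨x', hx'⟩, i'⟩ h
    have h0 : x * (y x) ^ (i.val + 1) = x' * (y x') ^ (i'.val + 1) := congrArg Subtype.val h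
    have hxx : x = x' := by
      have h1 : (x * (y x) ^ (i.val + 1)) ^ k = (x' * (y x') ^ (i'.val + 1)) ^ k := by rw [h0]
      rwa [key x hx, key x' hx'] at h1
    subst hxx
    have h2 : (y x) ^ (i.val + 1) = (y x) ^ (i'.val + 1) := mul_left_cancel h0
    have hi : i.val + 1 < q := by have := i.2; omega
    have hi' : i'.val + 1 < q := by have := i'.2; omega
    have h3 : i.val + 1 = i'.val + 1 := by
      apply pow_injOn_Iio_orderOf (x := y x)
      · rw [(hy x hx).1]; exact hi
      · rw [(hy x hx).1]; exact hi'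
      · exact h2
    have h4 : i = i' := Fin.ext (by omega)
    rw [h4]
  have hle := Nat.card_le_card_of_injective f hf
  rw [Nat.card_prod, Nat.card_fin] at hle
  rw [Cfsg.Agent.Helper20.ordCnt_def, Cfsg.Agent.Helper20.ordCnt_def, mul_comm]
  exact hle

end Cfsg.Agent.Helper27.SOT4
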