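import Mathlib
import Cfsg.Agent.Lib.Helper20.OrderCount

/-!
# S4004 (design helper27): exponent of a Sylow subgroup (piece SOT4-EXP)

`exponent_sylow_eq`: every `x : P` has `orderOf x = p ^ k` (`P.2 : IsPGroup p P`,
`IsPGroup.iff_orderOf`); if `k ≥ 2` then `(x : G) ^ (p ^ (k - 2))` has order `p ^ 2`
(`orderOf_pow'`/`orderOf_pow_of_dvd`), contradicting `ordCnt G (p^2) = 0`
(`Cfsg.Agent.Helper20.ordCnt_pos_iff`).  So `x ^ p = 1` for all `x : P`, hence
`Monoid.exponent P ∣ p` (`Monoid.exponent_dvd_of_forall_pow_eq_one`); `P` is nontrivial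
(`p ∣ Nat.card G`, so `p ∣ Nat.card P`: `Sylow.card_eq_multiplicity` / `P.dvd_card_of_dvd_card`),
so the exponent is not `1` (`Monoid.exp_eq_one_iff`), and a divisor `≠ 1` of the prime `p` is
`p`.  Aux names: prefix `sot4exp_`.
-/

set_option autoImplicit false

namespace Cfsg.Agent.Helper27.SOT4

open Cfsg.Agent.Helper20 (ordCnt)

variable {G : Type*} [Group G] [Finite G]

theorem exponent_sylow_eq (p : ℕ) [Fact p.Prime] (P : Sylow p G) (hpN : p ∣ Nat.card G)
    (h2 : ordCnt G (p ^ 2) = 0) : Monoid.exponent ↥(P : Subgroup G) = p := by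
  have hp : p.Prime := Fact.out
  have hno : ¬ ∃ g : G, orderOf g = p ^ 2 := by
    intro hex
    have := (Cfsg.Agent.Helper20.ordCnt_pos_iff (G := G) (p ^ 2)).2 hex
    omega
  -- every element of `P` has `x ^ p = 1`
  have hxp : ∀ x : ↥(P : Subgroup G), x ^ p = 1 := by
    intro x
    obtain ⟨k, hk⟩ := (IsPGroup.iff_orderOf.1 P.2) x
    by_contra hne
    have hk2 : 2 ≤ k := by
      by_contra hlt
      have hk1 : k ≤ 1 := by omega
      apply hne
      have hdvd : orderOf x ∣ p := by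
        rw [hk]
        calc p ^ k ∣ p ^ 1 := pow_dvd_pow p hk1
          _ = p := pow_one p
      exact orderOf_dvd_iff_pow_eq_one.1 hdvd
    apply hno
    refine ⟨(x : G) ^ (p ^ (k - 2)), ?_⟩
    have hox : orderOf (x : G) = p ^ k := by
      rw [Subgroup.orderOf_coe, hk]
    have hdvd : p ^ (k - 2) ∣ orderOf (x : G) := by
      rw [hox]
      exact pow_dvd_pow p (by omega)
    rw [orderOf_pow_of_dvd (pow_ne_zero _ hp.ne_zero) hdvd, hox]
    have hsplit : p ^ k = p ^ 2 * p ^ (k - 2) := by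
      rw [← pow_add]
      congr 1
      omega
    rw [hsplit]
    exact Nat.mul_div_cancel _ (pow_pos hp.pos _)
  have hdvd : Monoid.exponent ↥(P : Subgroup G) ∣ p :=
    Monoid.exponent_dvd_of_forall_pow_eq_one hxp
  rcases (Nat.dvd_prime hp).1 hdvd with h1 | h1
  · exfalso
    have hsub : Subsingleton ↥(P : Subgroup G) := Monoid.exp_eq_one_iff.1 h1
    have hcard : Nat.card ↥(P : Subgroup G) = 1 := Nat.card_eq_one_iff_unique.2 ⟨hsub, ⟨1⟩⟩
    have hpd : p ∣ Nat.card ↥(P : Subgroup G) := P.dvd_card_of_dvd_card hpN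
    rw [hcard] at hpd
    exact hp.one_lt.ne' (Nat.dvd_one.1 hpd)
  · exact h1

end Cfsg.Agent.Helper27.SOT4
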