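import Mathlib
import Cfsg.Agent.Lib.Helper20.OrderCount

/-!
# S4004 (design helper27): a fixed point of conjugation (piece SOT4-FIX)

`exists_commute_of_mod`: the cyclic group `Subgroup.zpowers x` has order `p` (so it is a
`p`-group: `IsPGroup.of_card`), and acts by conjugation on the finite type
`{y : G // orderOf y = q}` (`g • y = ⟨g * y * g⁻¹, _⟩`, `orderOf_conj`-type lemma).  Its
cardinality is `ordCnt G q` (`ordCnt_def`), which is `≡ 1 (mod p)`, so not divisible by `p`;
`IsPGroup.nonempty_fixed_point_of_prime_not_dvd_card` gives a fixed point `y`, and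
`x * y * x⁻¹ = y` is `Commute x y`.  Aux names: prefix `sot4fix_`.
-/

set_option autoImplicit false

namespace Cfsg.Agent.Helper27.SOT4

open Cfsg.Agent.Helper20 (ordCnt)

variable {G : Type*} [Group G] [Finite G]

omit [Finite G] in
theorem sot4fix_orderOf_conj (g y : G) : orderOf (g * y * g⁻¹) = orderOf y := by
  have h := MulEquiv.orderOf_eq (MulAut.conj g) y
  rwa [MulAut.conj_apply] at h

/-- conjugation action of a subgroup on the elements of a fixed order -/
@[reducible] def sot4fixAction (Z : Subgroup G) (q : ℕ) : MulAction Z {y : G // orderOf y = q} where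
  smul g y := ⟨(g : G) * y.1 * (g : G)⁻¹, by rw [sot4fix_orderOf_conj]; exact y.2⟩
  one_smul y := by
    apply Subtype.ext
    show ((1 : Z) : G) * y.1 * ((1 : Z) : G)⁻¹ = y.1
    simp
  mul_smul g h y := by
    apply Subtype.ext
    show ((g * h : Z) : G) * y.1 * ((g * h : Z) : G)⁻¹ = (g : G) * ((h : G) * y.1 * (h : G)⁻¹) * (g : G)⁻¹
    simp only [Subgroup.coe_mul, mul_inv_rev]
    group

theorem exists_commute_of_mod {p : ℕ} (hp : p.Prime) (x : G) (hx : orderOf x = p) (q : ℕ)
    (hmod : ordCnt G q % p = 1) : ∃ y : G, orderOf y = q ∧ Commute x y := by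
  haveI : Fact p.Prime := ⟨hp⟩
  have hZ : IsPGroup p (Subgroup.zpowers x) := by
    apply IsPGroup.of_card (n := 1)
    rw [Nat.card_zpowers, hx, pow_one]
  letI := sot4fixAction (Subgroup.zpowers x) q
  have hnd : ¬ p ∣ Nat.card {y : G // orderOf y = q} := by
    rw [← Cfsg.Agent.Helper20.ordCnt_def]
    intro hd
    have h0 : ordCnt G q % p = 0 := Nat.mod_eq_zero_of_dvd hd
    omega
  obtain ⟨y, hy⟩ := hZ.nonempty_fixed_point_of_prime_not_dvd_card {y : G // orderOf y = q} hnd
  refine ⟨y.1, y.2, ?_⟩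
  have h1 := hy ⟨x, Subgroup.mem_zpowers x⟩
  have h2 : x * y.1 * x⁻¹ = y.1 := congrArg Subtype.val h1
  show x * y.1 = y.1 * x
  calc x * y.1 = x * y.1 * x⁻¹ * x := by group
    _ = y.1 * x := by rw [h2]

end Cfsg.Agent.Helper27.SOT4
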