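import Mathlib
import Cfsg.Agent.Lib.Helper20.OrderCount
import Cfsg.Agent.Lib.SOT.SOTDefs
import Cfsg.Agent.Lib.SOT.SOTOdd
import Cfsg.Agent.Lib.SOT.SOTGrpA
import Cfsg.Agent.Lib.SOT4.SOT4Arith
import Cfsg.Agent.Lib.SOT4.SOT4Fix
import Cfsg.Agent.Lib.SOT4.SOT4Count

/-!
# S4004 (design helper27): no elements of order `p * q`
-/

set_option autoImplicit false

namespace Cfsg.Agent.Helper27.SOT4

open Cfsg.Agent.Helper20 (ordCnt)
open Cfsg.Agent.Lead.SOT

variable {G : Type*} [Group G] [Finite G]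

theorem sot4nopq_aux {m n : ℕ} (h : FD (Nat.card G) (ordCnt G) m n) {p q : ℕ}
    (hp : p.Prime) (hq : q.Prime) (hpq : p ≠ q) (hpN : p ∣ Nat.card G) (hqN : q ∣ Nat.card G)
    (hq3 : 3 ≤ q) (hs : ordCnt G (p * q) = ordCnt G p) : False := by
  have hmod : ordCnt G q % p = 1 := mod_of_pq_eq h hp hq hpq hpN hqN hs
  have hc : ∀ x : G, orderOf x = p → ∃ y : G, orderOf y = q ∧ Commute x y :=
    fun x hx => exists_commute_of_mod hp x hx q hmod
  have hge := ordCnt_mul_ge (G := G) hp hq hpq hc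
  rw [hs] at hge
  have h0 : ordCnt G p ≠ 0 := h.cauchy p hp hpN
  have h2 : 2 ≤ q - 1 := by omega
  have : 2 * ordCnt G p ≤ ordCnt G p := le_trans (Nat.mul_le_mul_right _ h2) hge
  omega

theorem no_pq {m n : ℕ}
    (hv : ∀ k, 3 ≤ k → ordCnt G k = 0 ∨ ordCnt G k = m ∨ ordCnt G k = n)
    (hodd : Odd (Nat.card G)) {p q : ℕ} (hp : p.Prime) (hq : q.Prime) (hpq : p ≠ q)
    (hpN : p ∣ Nat.card G) (hqN : q ∣ Nat.card G) : ordCnt G (p * q) = 0 := by
  have h := fd_of_vals hv
  have hp2 : p ≠ 2 := sotodd_ne_two hodd hpN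
  have hq2 : q ≠ 2 := sotodd_ne_two hodd hqN
  have hp3 : 3 ≤ p := by
    have := hp.two_le
    omega
  have hq3 : 3 ≤ q := by
    have := hq.two_le
    omega
  have hne : ordCnt G p ≠ ordCnt G q :=
    fun hs => h.odd_same_class_false hodd hp hq hpq hpN hqN hs
  by_contra h0
  have h3 : 3 ≤ p * q := by nlinarith
  have hcases : ordCnt G (p * q) = ordCnt G p ∨ ordCnt G (p * q) = ordCnt G q := by
    rcases h.vals (p * q) h3 with h1 | h1 | h1
    · exact absurd h1 h0
    · rcases h.prime_val hp hp2 hpN with h2 | h2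
      · exact Or.inl (h1.trans h2.symm)
      · rcases h.prime_val hq hq2 hqN with h4 | h4
        · exact Or.inr (h1.trans h4.symm)
        · exact absurd (h2.trans h4.symm) hne
    · rcases h.prime_val hp hp2 hpN with h2 | h2
      · rcases h.prime_val hq hq2 hqN with h4 | h4
        · exact absurd (h2.trans h4.symm) hne
        · exact Or.inr (h1.trans h4.symm)
      · exact Or.inl (h1.trans h2.symm)
  rcases hcases with hs | hs
  · exact sot4nopq_aux h hp hq hpq hpN hqN hq3 hs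
  · rw [mul_comm] at hs
    exact sot4nopq_aux h hq hp (Ne.symm hpq) hqN hpN hp3 hs

end Cfsg.Agent.Helper27.SOT4
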