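import Mathlib
import Cfsg.Agent.Lib.Helper20.OrderCount

/-!
# S4004 (design helper27): the element orders are `1, p, q` (piece SOT4-ORD)

`orderOf_cases`: let `d = orderOf g ≠ 1`.  Every prime divisor of `d` divides `Nat.card G`
(`orderOf_dvd_natCard`), so it is `p` or `q`.  If `p ∣ d` and `q ∣ d` then `p * q ∣ d` and
`g ^ (d / (p*q))` has order `p * q` (`orderOf_pow_of_dvd`), contradicting `hpq0`
(`Cfsg.Agent.Helper20.ordCnt_pos_iff`).  So `d` is a power of one prime `r ∈ {p, q}`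
(`Nat.eq_prime_pow_of_unique_prime_dvd`), `d = r ^ k`, `k ≥ 1`; if `k ≥ 2` then
`g ^ (r ^ (k - 2))` has order `r ^ 2`, contradicting `hp2` / `hq2`.  Aux names: prefix `sot4ord_`.
-/

set_option autoImplicit false

namespace Cfsg.Agent.Helper27.SOT4

open Cfsg.Agent.Helper20 (ordCnt)

variable {G : Type*} [Group G] [Finite G]

theorem sot4ord_exists_of_dvd (g : G) {m : ℕ} (hm : m ∣ orderOf g) : ∃ h : G, orderOf h = m := by
  have hd : orderOf g ≠ 0 := (orderOf_pos g).ne'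
  have hm0 : m ≠ 0 := by
    intro h
    subst h
    exact hd (zero_dvd_iff.mp hm)
  have hq0 : orderOf g / m ≠ 0 :=
    (Nat.div_pos (Nat.le_of_dvd (Nat.pos_of_ne_zero hd) hm) (Nat.pos_of_ne_zero hm0)).ne'
  refine ⟨g ^ (orderOf g / m), ?_⟩
  rw [orderOf_pow_of_dvd hq0 (Nat.div_dvd_of_dvd hm), Nat.div_div_self hm hd]

theorem orderOf_cases {p q : ℕ} (hp : p.Prime) (hq : q.Prime) (hpq : p ≠ q)
    (hcard : ∀ r : ℕ, r.Prime → r ∣ Nat.card G → r = p ∨ r = q)
    (hpq0 : ordCnt G (p * q) = 0) (hp2 : ordCnt G (p ^ 2) = 0) (hq2 : ordCnt G (q ^ 2) = 0)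
    (g : G) : orderOf g = 1 ∨ orderOf g = p ∨ orderOf g = q := by
  have hno : ∀ m, ordCnt G m = 0 → ¬ m ∣ orderOf g := by
    intro m hm hdvd
    obtain ⟨h, hh⟩ := sot4ord_exists_of_dvd g hdvd
    have hpos := (Cfsg.Agent.Helper20.ordCnt_pos_iff m).mpr ⟨h, hh⟩
    omega
  have hprime : ∀ r, r.Prime → r ∣ orderOf g → r = p ∨ r = q := fun r hr hd =>
    hcard r hr (hd.trans (orderOf_dvd_natCard g))
  by_cases h1 : orderOf g = 1
  · exact Or.inl h1
  right
  obtain ⟨r, hr, hrd⟩ := Nat.exists_prime_and_dvd h1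
  obtain ⟨e, he⟩ := hrd
  have hrd' : r ∣ orderOf g := ⟨e, he⟩
  have he1 : e = 1 := by
    by_contra hne
    obtain ⟨r', hr', hr'e⟩ := Nat.exists_prime_and_dvd hne
    have hr'd : r' ∣ orderOf g := by
      rw [he]
      exact Dvd.dvd.mul_left hr'e r
    have hrr' : r * r' ∣ orderOf g := by
      rw [he]
      exact Nat.mul_dvd_mul_left r hr'e
    rcases hprime r hr hrd' with h2 | h2 <;> rcases hprime r' hr' hr'd with h3 | h3
    · rw [h2, h3] at hrr'
      exact hno _ hp2 (by rw [pow_two]; exact hrr')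
    · rw [h2, h3] at hrr'
      exact hno _ hpq0 hrr'
    · rw [h2, h3] at hrr'
      exact hno _ hpq0 (by rw [mul_comm]; exact hrr')
    · rw [h2, h3] at hrr'
      exact hno _ hq2 (by rw [pow_two]; exact hrr')
  rw [he1, mul_one] at he
  rcases hprime r hr hrd' with h2 | h2
  · exact Or.inl (he.trans h2)
  · exact Or.inr (he.trans h2)

end Cfsg.Agent.Helper27.SOT4
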