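import Mathlib
import Cfsg.Prelude.Def_Solvable
import Cfsg.Agent.Lib.Helper20.OrderCount
import Cfsg.Agent.Lib.SOT.SOTMain
import Cfsg.Agent.Lib.SOT4.SOT4Arith
import Cfsg.Agent.Lib.SOT4.SOT4NoPQ
import Cfsg.Agent.Lib.SOT4.SOT4Exp
import Cfsg.Agent.Lib.SOT4.SOT4Ord
import Cfsg.Agent.Lib.SOT4.SOT4Norm
import Cfsg.Agent.Lib.SOT4.SOT4Compl

/-!
# S4004 (design helper27): assembly
-/

set_option autoImplicit false

namespace Cfsg.Agent.Helper27.SOT4

open Cfsg.Agent.Helper20 (ordCnt)
open Cfsg.Agent.Lead.SOT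

variable {G : Type*} [Group G] [Finite G]

/-- no element of order `p ^ 2` -/
theorem sot4main_no_psq {m n : ℕ}
    (hv : ∀ k, 3 ≤ k → ordCnt G k = 0 ∨ ordCnt G k = m ∨ ordCnt G k = n)
    (hodd : Odd (Nat.card G)) {p q : ℕ} (hp : p.Prime) (hq : q.Prime) (hpq : p ≠ q)
    (hpN : p ∣ Nat.card G) (hqN : q ∣ Nat.card G) : ordCnt G (p ^ 2) = 0 := by
  have h := fd_of_vals hv
  have hp2 : p ≠ 2 := sotodd_ne_two hodd hpN
  have hq2 : q ≠ 2 := sotodd_ne_two hodd hqN
  have hpq0 : ordCnt G (p * q) = 0 := no_pq hv hodd hp hq hpq hpN hqN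
  have hne : ordCnt G p ≠ ordCnt G q :=
    fun hs => h.odd_same_class_false hodd hp hq hpq hpN hqN hs
  by_cases hd : p ^ 2 ∣ Nat.card G
  · rcases h.prime_val hp hp2 hpN with h1 | h1
    · rcases h.prime_val hq hq2 hqN with h2 | h2
      · exact absurd (h1.trans h2.symm) hne
      · exact no_psq h hp hq hpq hqN hd h1 h2 hpq0
    · rcases h.prime_val hq hq2 hqN with h2 | h2
      · exact no_psq h.symm hp hq hpq hqN hd h1 h2 hpq0
      · exact absurd (h1.trans h2.symm) hne
  · apply Cfsg.Agent.Helper20.ordCnt_eq_zero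
    rintro ⟨g, hg⟩
    apply hd
    rw [← hg]
    exact orderOf_dvd_natCard g

theorem sot4_main (hodd : Odd (Nat.card G))
    (h : (((fun m : ℕ => Nat.card {g : G // orderOf g = m}) ''
      Set.range (orderOf : G → ℕ))).ncard = 3) :
    (Nat.card G).primeFactors.card ≤ 2 ∧
      ((Nat.card G).primeFactors.card = 2 →
        (∀ (p : ℕ) [Fact p.Prime] (P : Sylow p G), p ∣ Nat.card G →
          Monoid.exponent ↥(P : Subgroup G) = p) ∧
        ∃ C : Subgroup G, Cfsg.IsFrobeniusComplement C ∧ (Nat.card ↥C).Prime) := by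
  obtain ⟨m, n, hm1, hn1, hmn, hv0⟩ := vals_of_ncard h
  have hvals := sotmain_vals hv0
  have hfd := fd_of_vals hvals
  have hle : (Nat.card G).primeFactors.card ≤ 2 := hfd.card_primeFactors_le_two hodd
  refine ⟨hle, fun h2 => ?_⟩
  obtain ⟨p, q, hpq, hpf⟩ := Finset.card_eq_two.1 h2
  have hpm : p ∈ (Nat.card G).primeFactors := by rw [hpf]; simp
  have hqm : q ∈ (Nat.card G).primeFactors := by rw [hpf]; simp
  have hp : p.Prime := Nat.prime_of_mem_primeFactors hpm
  have hq : q.Prime := Nat.prime_of_mem_primeFactors hqm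
  have hpN : p ∣ Nat.card G := Nat.dvd_of_mem_primeFactors hpm
  have hqN : q ∣ Nat.card G := Nat.dvd_of_mem_primeFactors hqm
  have hcard : ∀ r : ℕ, r.Prime → r ∣ Nat.card G → r = p ∨ r = q := by
    intro r hr hrN
    have : r ∈ (Nat.card G).primeFactors :=
      Nat.mem_primeFactors.2 ⟨hr, hrN, Nat.card_pos.ne'⟩
    rw [hpf] at this
    simpa using this
  have hpq0 : ordCnt G (p * q) = 0 := no_pq hvals hodd hp hq hpq hpN hqN
  have hp2 : ordCnt G (p ^ 2) = 0 := sot4main_no_psq hvals hodd hp hq hpq hpN hqN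
  have hq2 : ordCnt G (q ^ 2) = 0 := sot4main_no_psq hvals hodd hq hp (Ne.symm hpq) hqN hpN
  constructor
  · intro p' _ P hp'N
    rcases hcard p' Fact.out hp'N with rfl | rfl
    · exact exponent_sylow_eq p' P hp'N hp2
    · exact exponent_sylow_eq p' P hp'N hq2
  · have hord := orderOf_cases hp hq hpq hcard hpq0 hp2 hq2
    have hsol : Group.IsSolvable G := solvable_of_card_primeFactors_le_two hle
    have hnt : Nontrivial G := by
      rw [← Finite.one_lt_card_iff_nontrivial]
      exact lt_of_lt_of_le hp.one_lt (Nat.le_of_dvd Nat.card_pos hpN)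
    obtain ⟨r, V, hr, hVn, hV1, hVab, hVr⟩ := exists_normal_abelian hsol hnt
    haveI := hVn
    -- `r` is `p` or `q`
    obtain ⟨v, hv, hv1⟩ : ∃ v ∈ V, v ≠ 1 := by
      by_contra hcon
      push Not at hcon
      exact hV1 ((Subgroup.eq_bot_iff_forall V).2 hcon)
    have hov : orderOf v = r := by
      have hd : orderOf v ∣ r := orderOf_dvd_of_pow_eq_one (hVr v hv)
      rcases (Nat.dvd_prime hr).1 hd with h1 | h1
      · exact absurd (orderOf_eq_one_iff.1 h1) hv1
      · exact h1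
    haveI : Fact p.Prime := ⟨hp⟩
    haveI : Fact q.Prime := ⟨hq⟩
    rcases hord v with h1 | h1 | h1
    · exact absurd (orderOf_eq_one_iff.1 h1) hv1
    · have hrp : r = p := hov.symm.trans h1
      subst hrp
      exact frob_of_normal hpq hord V hV1 hVab hVr hqN
    · have hrq : r = q := hov.symm.trans h1
      subst hrq
      have hord' : ∀ g : G, orderOf g = 1 ∨ orderOf g = r ∨ orderOf g = p := by
        intro g
        rcases hord g with h3 | h3 | h3
        · exact Or.inl h3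
        · exact Or.inr (Or.inr h3)
        · exact Or.inr (Or.inl h3)
      exact frob_of_normal (Ne.symm hpq) hord' V hV1 hVab hVr hpN

end Cfsg.Agent.Helper27.SOT4
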